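import Cfsg.Agent.Lib.S6Cent.A6Facts

set_option autoImplicit false
set_option linter.style.haveILetI false
set_option linter.unusedVariables false
set_option linter.unusedSectionVars false
set_option linter.unnecessarySeqFocus false

/-!
# Automorphisms of `A₆` fixing an element of order three come from `S₆`
-/

namespace Cfsg.Agent.Lib.S6Cent.A6Aut

open Equiv Subgroup

lemma ev_mem (l : List Bool) : Equiv.Perm.sign (ev l) = 1 := by
  induction l with
  | nil => simp [ev]
  | cons b l ih =>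
    simp only [ev, map_mul, ih, mul_one]
    split_ifs
    · exact sign_y
    · exact sign_x

lemma mem_A {p : S6} (h : Equiv.Perm.sign p = 1) : p ∈ A6 := Equiv.Perm.mem_alternatingGroup.mpr h

lemma P3_of_fix {α : A6 ≃* A6} {c : A6} (hc : orderOf c = 3) (hαc : α c = c) (d : A6)
    (hd : P3 (d : S6)) : P3 ((α d : A6) : S6) := by
  have hcS : (c : S6) ^ 3 = 1 := by
    have h1 : c ^ 3 = 1 := by rw [← hc]; exact pow_orderOf_eq_one c
    exact congrArg Subtype.val h1
  have hc1 : (c : S6) ≠ 1 := by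
    intro h
    have h2 : c = 1 := Subtype.ext h
    rw [h2] at hc
    simp at hc
  have hsgn : ∀ e : A6, Equiv.Perm.sign (e : S6) = 1 := fun e => Equiv.Perm.mem_alternatingGroup.mp e.2
  rcases cases3 _ (hsgn c) hcS hc1 with hP | hD
  · -- `c` is a 3-cycle
    obtain ⟨g1, hg1, h1⟩ := conjA_x _ hd
    obtain ⟨g2, hg2, h2⟩ := conjA_x _ hP
    let g : A6 := ⟨g1, mem_A hg1⟩ * (⟨g2, mem_A hg2⟩ : A6)⁻¹
    have hdc : d = g * c * g⁻¹ := by
      apply Subtype.ext
      show (d : S6) = g1 * g2⁻¹ * (c : S6) * (g1 * g2⁻¹)⁻¹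
      rw [← h1, ← h2]
      group
    rw [hdc, map_mul, map_mul, map_inv, hαc]
    exact P3_conj _ _ hP
  · -- `c` is a product of two 3-cycles
    have hall : ∀ (β : A6 ≃* A6), β c = c → ∀ e : A6, D3 (e : S6) → D3 ((β e : A6) : S6) := by
      intro β hβ e he
      obtain ⟨g1, hg1, h1⟩ := conjA_x2 _ he
      obtain ⟨g2, hg2, h2⟩ := conjA_x2 _ hD
      let g : A6 := ⟨g1, mem_A hg1⟩ * (⟨g2, mem_A hg2⟩ : A6)⁻¹
      have hdc : e = g * c * g⁻¹ := by
        apply Subtype.ext
        show (e : S6) = g1 * g2⁻¹ * (c : S6) * (g1 * g2⁻¹)⁻¹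
        rw [← h1, ← h2]
        group
      rw [hdc, map_mul, map_mul, map_inv, hβ]
      exact D3_conj _ _ hD
    have hd3 : ((α d : A6) : S6) ^ 3 = 1 := by
      have h1 : d ^ 3 = 1 := Subtype.ext hd.1
      have h2 : (α d) ^ 3 = 1 := by rw [← map_pow, h1, map_one]
      exact congrArg Subtype.val h2
    have hd1 : ((α d : A6) : S6) ≠ 1 := by
      intro h
      have h2 : α d = 1 := Subtype.ext h
      have h3 : d = 1 := by simpa using h2
      rw [h3] at hd
      exact hd.2.1 rfl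
    rcases cases3 _ (hsgn (α d)) hd3 hd1 with h | h
    · exact h
    · exfalso
      have hsymm : α.symm c = c := by rw [MulEquiv.symm_apply_eq]; exact hαc.symm
      have h2 := hall α.symm hsymm _ h
      rw [MulEquiv.symm_apply_apply] at h2
      have : (3 : ℕ) = 0 := hd.2.2.symm.trans h2.2.2
      omega

/-- An automorphism of `A₆` fixing an element of order three is induced by `S₆`. -/
theorem exists_perm_of_fix (α : A6 ≃* A6) (c : A6) (hc : orderOf c = 3) (hαc : α c = c) :
    ∃ σ : S6, ∀ p : A6, ((α p : A6) : S6) = σ * p * σ⁻¹ := by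
  have hP := P3_of_fix hc hαc
  let xA : A6 := ⟨xP, mem_A sign_x⟩
  let yA : A6 := ⟨yP, mem_A sign_y⟩
  have hxA : P3 ((α xA : A6) : S6) := hP xA P3_x
  obtain ⟨σ₁, h1⟩ := conj_x _ hxA
  set q : S6 := σ₁⁻¹ * ((α yA : A6) : S6) * σ₁ with hq
  have hxx' : ((α xA : A6) : S6) = σ₁ * xP * σ₁⁻¹ := h1.symm
  have hyy' : ((α yA : A6) : S6) = σ₁ * q * σ₁⁻¹ := by
    rw [hq]; group
  have hword : ∀ n : ℕ, σ₁⁻¹ * ((α (xA * yA * xA * yA ^ n) : A6) : S6) * σ₁⁻¹⁻¹ =
      xP * q * xP * q ^ n := by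
    intro n
    have h3 : ((α (xA * yA * xA * yA ^ n) : A6) : S6) =
        ((α xA : A6) : S6) * ((α yA : A6) : S6) * ((α xA : A6) : S6) * ((α yA : A6) : S6) ^ n := by
      simp only [map_mul, map_pow]
      rfl
    rw [h3, hxx', hyy', conj_pow]
    group
  have hw1 : P3 (xP * q * xP * q ^ 3) := by
    rw [← hword 3]
    exact P3_conj _ _ (hP _ P3_w1)
  have hw2 : P3 (xP * q * xP * q ^ 4) := by
    rw [← hword 4]
    exact P3_conj _ _ (hP _ P3_w2)
  have hq5 : q ^ 5 = 1 := by
    have h5 : yA ^ 5 = 1 := Subtype.ext y5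
    have h6 : (α yA) ^ 5 = 1 := by rw [← map_pow, h5, map_one]
    have h7 : ((α yA : A6) : S6) ^ 5 = 1 := congrArg Subtype.val h6
    have h8 : q = σ₁⁻¹ * ((α yA : A6) : S6) * σ₁⁻¹⁻¹ := by rw [hq, inv_inv]
    rw [h8, conj_pow, h7]
    group
  have hq1 : q ≠ 1 := by
    intro h
    have h6 : ((α yA : A6) : S6) = 1 := by
      rw [hyy', h]; group
    have h7 : α yA = 1 := Subtype.ext h6
    have h8 : yA = 1 := by simpa using h7
    exact y1 (congrArg Subtype.val h8)
  obtain ⟨s, hs1, hs2⟩ := key q hq5 hq1 hw1 hw2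
  refine ⟨σ₁ * s, ?_⟩
  have hX : ((α xA : A6) : S6) = (σ₁ * s) * xP * (σ₁ * s)⁻¹ := by
    rw [hxx']
    have : s * xP * s⁻¹ = xP := by rw [hs1]; group
    calc σ₁ * xP * σ₁⁻¹ = σ₁ * (s * xP * s⁻¹) * σ₁⁻¹ := by rw [this]
      _ = _ := by group
  have hY : ((α yA : A6) : S6) = (σ₁ * s) * yP * (σ₁ * s)⁻¹ := by
    rw [hyy', ← hs2]
    group
  -- words
  let evA : List Bool → A6 := fun l => ⟨ev l, mem_A (ev_mem l)⟩
  have hev : ∀ l : List Bool, ((α (evA l) : A6) : S6) = (σ₁ * s) * ev l * (σ₁ * s)⁻¹ := by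
    intro l
    induction l with
    | nil =>
      have : evA [] = 1 := rfl
      rw [this, map_one]
      simp [ev]
    | cons b l ih =>
      have h2 : evA (b :: l) = (if b then yA else xA) * evA l := by
        apply Subtype.ext
        show ev (b :: l) = ((if b then yA else xA : A6) : S6) * ev l
        cases b <;> rfl
      rw [h2, map_mul]
      have h3 : ((α (if b then yA else xA) * α (evA l) : A6) : S6) =
          ((α (if b then yA else xA) : A6) : S6) * ((α (evA l) : A6) : S6) := rfl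
      rw [h3, ih]
      cases b
      · simp only [Bool.false_eq_true, if_false, ev]
        rw [hX]
        group
      · simp only [if_true, ev]
        rw [hY]
        group
  intro p
  obtain ⟨w0, -, w1, -, w2, -, w3, -, hp⟩ := nf p (Equiv.Perm.mem_alternatingGroup.mp p.2)
  have hp2 : p = evA w0 * evA w1 * evA w2 * evA w3 := Subtype.ext hp
  have h3 : ((α p : A6) : S6) = ((α (evA w0) : A6) : S6) * ((α (evA w1) : A6) : S6) *
      ((α (evA w2) : A6) : S6) * ((α (evA w3) : A6) : S6) := by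
    rw [hp2]
    simp only [map_mul]
    rfl
  rw [h3, hev, hev, hev, hev, hp]
  group

end Cfsg.Agent.Lib.S6Cent.A6Aut
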