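import Mathlib

set_option autoImplicit false
set_option linter.style.haveILetI false
set_option linter.unusedVariables false
set_option linter.unusedSectionVars false
set_option linter.unnecessarySeqFocus false
set_option maxRecDepth 100000
set_option synthInstance.maxHeartbeats 0
set_option synthInstance.maxSize 4096

/-!
# Finite checks on `S₆`
-/

namespace Cfsg.Agent.Lib.S6Cent.A6Aut

open Equiv Subgroup

abbrev S6 := Equiv.Perm (Fin 6)
abbrev A6 := alternatingGroup (Fin 6)

def xP : S6 := swap 0 1 * swap 1 2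
def yP : S6 := swap 1 2 * swap 2 3 * swap 3 4 * swap 4 5
def x2P : S6 := swap 0 1 * swap 1 2 * (swap 3 4 * swap 4 5)

def fixCount (p : S6) : ℕ := (Finset.univ.filter fun i => p i = i).card

def P3 (p : S6) : Prop := p ^ 3 = 1 ∧ p ≠ 1 ∧ fixCount p = 3
def D3 (p : S6) : Prop := p ^ 3 = 1 ∧ p ≠ 1 ∧ fixCount p = 0

instance : DecidablePred P3 := fun p => by unfold P3; infer_instance
instance : DecidablePred D3 := fun p => by unfold D3; infer_instance

lemma fixCount_conj (p q : S6) : fixCount (q * p * q⁻¹) = fixCount p := by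
  unfold fixCount
  refine Finset.card_bij (fun i _ => q⁻¹ i) ?_ ?_ ?_
  · intro i hi
    have hi' := (Finset.mem_filter.mp hi).2
    refine Finset.mem_filter.mpr ⟨Finset.mem_univ _, ?_⟩
    have h1 : q (p (q⁻¹ i)) = i := hi'
    apply q.injective
    rw [h1]
    simp
  · intro i _ j _ h
    exact q⁻¹.injective h
  · intro i hi
    have hi' := (Finset.mem_filter.mp hi).2
    refine ⟨q i, Finset.mem_filter.mpr ⟨Finset.mem_univ _, ?_⟩, by simp⟩
    show q (p (q⁻¹ (q i))) = q i
    simp [hi']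

lemma conj_pow3 (p q : S6) (h : p ^ 3 = 1) : (q * p * q⁻¹) ^ 3 = 1 := by
  rw [conj_pow, h]; group

lemma conj_ne (p q : S6) (h : p ≠ 1) : q * p * q⁻¹ ≠ 1 := fun h' => h (conj_eq_one_iff.mp h')

lemma P3_conj (p q : S6) (h : P3 p) : P3 (q * p * q⁻¹) :=
  ⟨conj_pow3 p q h.1, conj_ne p q h.2.1, by rw [fixCount_conj]; exact h.2.2⟩
lemma D3_conj (p q : S6) (h : D3 p) : D3 (q * p * q⁻¹) :=
  ⟨conj_pow3 p q h.1, conj_ne p q h.2.1, by rw [fixCount_conj]; exact h.2.2⟩
lemma conjA_x : ∀ p : S6, P3 p → ∃ g : S6, Equiv.Perm.sign g = 1 ∧ g * xP * g⁻¹ = p := by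
  decide +kernel
lemma conjA_x2 : ∀ p : S6, D3 p → ∃ g : S6, Equiv.Perm.sign g = 1 ∧ g * x2P * g⁻¹ = p := by
  decide +kernel
lemma conj_x : ∀ p : S6, P3 p → ∃ g : S6, g * xP * g⁻¹ = p := fun p hp =>
  let ⟨g, _, hg⟩ := conjA_x p hp; ⟨g, hg⟩
lemma cases3 : ∀ p : S6, Equiv.Perm.sign p = 1 → p ^ 3 = 1 → p ≠ 1 → P3 p ∨ D3 p := by
  decide +kernel
lemma P3_x : P3 xP := by decide +kernel
lemma P3_w1 : P3 (xP * yP * xP * yP ^ 3) := by decide +kernel
lemma P3_w2 : P3 (xP * yP * xP * yP ^ 4) := by decide +kernel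
lemma y5 : yP ^ 5 = 1 := by decide +kernel
lemma y1 : yP ≠ 1 := by decide +kernel
lemma sign_x : Equiv.Perm.sign xP = 1 := by decide +kernel
lemma sign_y : Equiv.Perm.sign yP = 1 := by decide +kernel
lemma key : ∀ p : S6, p ^ 5 = 1 → p ≠ 1 → P3 (xP * p * xP * p ^ 3) → P3 (xP * p * xP * p ^ 4) →
    ∃ s : S6, s * xP = xP * s ∧ s * yP * s⁻¹ = p := by decide +kernel

def ev : List Bool → S6
  | [] => 1
  | b :: l => (if b then yP else xP) * ev l

def W0 : List (List Bool) :=
  [[], [false], [false, false], [true, false, false], [true, true, false, false],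
    [true, true, true, false, false]]
def W1 : List (List Bool) :=
  [[], [true], [true, true], [true, true, true], [true, true, true, true]]
def W2 : List (List Bool) :=
  [[], [false, true, false, true], [true, false, true, false, true, true, true],
    [true, true, false, true, false, false, true, false]]
def W3 : List (List Bool) :=
  [[], [true, true, false, true, false, true, true],
    [true, false, false, true, true, false, true, true, false, false, true]]

lemma nf : ∀ p : S6, Equiv.Perm.sign p = 1 → ∃ w0 ∈ W0, ∃ w1 ∈ W1, ∃ w2 ∈ W2, ∃ w3 ∈ W3,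
    p = ev w0 * ev w1 * ev w2 * ev w3 := by decide +kernel


end Cfsg.Agent.Lib.S6Cent.A6Aut
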