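import Mathlib

set_option autoImplicit false
set_option linter.style.haveILetI false
set_option linter.unusedVariables false
set_option linter.unusedSectionVars false
set_option linter.unnecessarySeqFocus false
set_option maxRecDepth 100000
set_option synthInstance.maxHeartbeats 0
set_option synthInstance.maxSize 4096

namespace Cfsg.Agent.Lib.S6Cent.Basic

open Equiv Subgroup

abbrev S4 := Equiv.Perm (Fin 4)
abbrev X := Multiplicative (ZMod 2) × S4

def wZ : Multiplicative (ZMod 2) := Multiplicative.ofAdd 1
def zP : S4 := swap 0 2 * swap 1 3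
def vP : S4 := swap 0 1 * swap 2 3
def aP : S4 := swap 1 3
def rP : S4 := swap 0 1 * swap 0 2

def tX : X := (wZ, 1)
def zX : X := (1, zP)
def vX : X := (1, vP)
def aX : X := (1, aP)

/-- Sylow subgroup of `X`. -/
def isT (x : X) : Prop := x.2 2 = x.2 0 + 2

instance : DecidablePred isT := fun x => by unfold isT; infer_instance

def isE (x : X) : Prop := x.2 = 1 ∨ x.2 = zP ∨ x.2 = aP ∨ x.2 = aP * zP

instance : DecidablePred isE := fun x => by unfold isE; infer_instance

def isQ (x : X) : Prop := x.1 = 1 ∧ isT x

instance : DecidablePred isQ := fun x => by unfold isQ; infer_instance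

def TX : Subgroup X where
  carrier := {x | isT x}
  mul_mem' := by
    have : ∀ a b : X, isT a → isT b → isT (a * b) := by decide +kernel
    exact fun {a b} ha hb => this a b ha hb
  one_mem' := by decide +kernel
  inv_mem' := by
    have : ∀ a : X, isT a → isT a⁻¹ := by decide +kernel
    exact fun {a} ha => this a ha

def EX : Subgroup X where
  carrier := {x | isE x}
  mul_mem' := by
    have : ∀ a b : X, isE a → isE b → isE (a * b) := by decide +kernel
    exact fun {a b} ha hb => this a b ha hb
  one_mem' := by decide +kernel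
  inv_mem' := by
    have : ∀ a : X, isE a → isE a⁻¹ := by decide +kernel
    exact fun {a} ha => this a ha

def QX : Subgroup X where
  carrier := {x | isQ x}
  mul_mem' := by
    have : ∀ a b : X, isQ a → isQ b → isQ (a * b) := by decide +kernel
    exact fun {a b} ha hb => this a b ha hb
  one_mem' := by decide +kernel
  inv_mem' := by
    have : ∀ a : X, isQ a → isQ a⁻¹ := by decide +kernel
    exact fun {a} ha => this a ha

lemma card_X : Nat.card X = 48 := by
  rw [Nat.card_eq_fintype_card]; decide +kernel

lemma card_TX : Nat.card TX = 16 := by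
  have : Nat.card TX = Nat.card {x : X // isT x} := rfl
  rw [this, Nat.card_eq_fintype_card]; decide +kernel

lemma card_EX : Nat.card EX = 8 := by
  have : Nat.card EX = Nat.card {x : X // isE x} := rfl
  rw [this, Nat.card_eq_fintype_card]; decide +kernel

lemma card_QX : Nat.card QX = 8 := by
  have : Nat.card QX = Nat.card {x : X // isQ x} := rfl
  rw [this, Nat.card_eq_fintype_card]; decide +kernel

/-- the list of involutions of `TX`. -/
lemma invol_T : ∀ x : X, isT x → x * x = 1 → x ≠ 1 →
    x = tX ∨ x = zX ∨ x = vX ∨ x = vX * zX ∨ x = tX * zX ∨ x = tX * vX ∨ x = tX * (vX * zX) ∨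
      x = aX ∨ x = aX * zX ∨ x = tX * aX ∨ x = tX * (aX * zX) := by decide +kernel

lemma tX_central : ∀ x : X, x * tX = tX * x := by decide +kernel

lemma T_central_t : isT tX := by decide +kernel
lemma T_z : isT zX := by decide +kernel
lemma T_v : isT vX := by decide +kernel
lemma T_a : isT aX := by decide +kernel

lemma zX_central_T : ∀ x : X, isT x → x * zX = zX * x := by decide +kernel

lemma comm_T : ∀ x y : X, isT x → isT y → x * y * x⁻¹ * y⁻¹ = 1 ∨ x * y * x⁻¹ * y⁻¹ = zX := by
  decide +kernel

lemma comm_va : vX * aX * vX⁻¹ * aX⁻¹ = zX := by decide +kernel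

/-- conjugation in `X` -/
def rX : X := (1, rP)

lemma conj_zv : rX * zX * rX⁻¹ = vX ∨ rX * zX * rX⁻¹ = vX * zX := by decide +kernel
lemma exists_conj_zv : ∃ y : X, y * zX * y⁻¹ = vX := by decide +kernel
lemma exists_conj_zvz : ∃ y : X, y * zX * y⁻¹ = vX * zX := by decide +kernel
lemma conj_a : vX * aX * vX⁻¹ = aX * zX := by decide +kernel

lemma centralizer_a : ∀ x : X, isT x → x * aX = aX * x → isE x := by decide +kernel
lemma centralizer_az : ∀ x : X, isT x → x * (aX * zX) = (aX * zX) * x → isE x := by decide +kernel

lemma norm_E : ∀ x : X, isE (x * zX * x⁻¹) → isE (x * aX * x⁻¹) → isT x := by decide +kernel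

lemma E_le_T : ∀ x : X, isE x → isT x := by decide +kernel
lemma T_eq_tQ : ∀ x : X, isT x → isQ x ∨ isQ (tX * x) := by decide +kernel
lemma Q_le_T : ∀ x : X, isQ x → isT x := by decide +kernel
lemma t_not_Q : ¬ isQ tX := by decide +kernel
lemma Q_gen : ∀ x : X, isQ x → x = 1 ∨ x = zX ∨ x = vX ∨ x = vX * zX ∨ x = aX ∨ x = aX * zX ∨
    x = vX * aX ∨ x = vX * (aX * zX) := by decide +kernel
lemma center_X : ∀ x : X, (∀ y : X, x * y = y * x) → x = 1 ∨ x = tX := by decide +kernel
lemma central_E (x : X) : isE x → x * zX = zX * x := fun h => zX_central_T x (E_le_T x h)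
lemma E_list : ∀ x : X, isE x → x = 1 ∨ x = zX ∨ x = tX ∨ x = tX * zX ∨ x = aX ∨ x = aX * zX ∨
    x = tX * aX ∨ x = tX * (aX * zX) := by decide +kernel

/-- twist by the sign -/
def sgnZ (σ : S4) : Multiplicative (ZMod 2) := if Equiv.Perm.sign σ = 1 then 1 else wZ

def twist : X →* X where
  toFun x := (x.1 * sgnZ x.2, x.2)
  map_one' := by decide +kernel
  map_mul' := by decide +kernel

lemma twist_twist : ∀ x : X, twist (twist x) = x := by decide +kernel
lemma twist_t : twist tX = tX := by decide +kernel
lemma twist_z : twist zX = zX := by decide +kernel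
lemma twist_v : twist vX = vX := by decide +kernel
lemma twist_a : twist aX = tX * aX := by decide +kernel
lemma twist_T : ∀ x : X, isT (twist x) ↔ isT x := by decide +kernel
lemma center_T_t : ∀ x : X, isT x → x * tX = tX * x := fun x _ => tX_central x
lemma center_T_tz : ∀ x : X, isT x → x * (tX * zX) = (tX * zX) * x := by decide +kernel

/-- an element of order 3 -/
lemma orderOf_rP : orderOf rX = 3 := by
  have h1 : rX ^ 3 = 1 := by decide +kernel
  have h2 : rX ≠ 1 := by decide +kernel
  exact orderOf_eq_prime h1 h2

end Cfsg.Agent.Lib.S6Cent.Basic
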