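import Cfsg.Agent.Lib.S6Cent.Setup
import Cfsg.Agent.Lib.Invol8.Main

set_option autoImplicit false
set_option linter.style.haveILetI false
set_option linter.unusedVariables false
set_option linter.unusedSectionVars false
set_option linter.unnecessarySeqFocus false
set_option maxRecDepth 100000
set_option synthInstance.maxHeartbeats 0
set_option synthInstance.maxSize 4096

/-!
# The index-two subgroup in the non-solvable case
-/

namespace Cfsg.Agent.Lib.S6Cent.Case2

open Subgroup Cfsg.Agent.Lib.S6Cent.Basic Cfsg.Agent.Lib.S6Cent.Setup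

def bP : S4 := vP * aP

def dihFun : DihedralGroup 4 → X
  | DihedralGroup.r i => (1, bP ^ i.val)
  | DihedralGroup.sr i => (1, aP * bP ^ i.val)

def dih : DihedralGroup 4 →* X where
  toFun := dihFun
  map_one' := by decide +kernel
  map_mul' := by decide +kernel

lemma dih_inj : ∀ a b : DihedralGroup 4, dih a = dih b → a = b := by decide +kernel
lemma dih_surj : ∀ x : X, isQ x → ∃ d, dih d = x := by decide +kernel
lemma dih_isQ : ∀ d, isQ (dih d) := by decide +kernel

lemma invol_Q : ∀ x : X, isQ x → x * x = 1 → x ≠ 1 →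
    x = zX ∨ x = vX ∨ x = vX * zX ∨ x = aX ∨ x = aX * zX := by decide +kernel

lemma Q_z : isQ zX := by decide +kernel
lemma Q_v : isQ vX := by decide +kernel
lemma Q_a : isQ aX := by decide +kernel
lemma Q_vz : vX * zX = zX * vX := by decide +kernel
lemma t_isT : isT tX := by decide +kernel

variable {G : Type*} [Group G] [Finite G]

lemma comm_mem_of_index_two {H : Subgroup G} (h : H.index = 2) (x y : G) :
    x * y * x⁻¹ * y⁻¹ ∈ H := by
  rw [mul_mem_iff_of_index_two h, mul_mem_iff_of_index_two h, mul_mem_iff_of_index_two h,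
    inv_mem_iff, inv_mem_iff]
  tauto

lemma odd_pow_mem_iff {H : Subgroup G} (h : H.index = 2) (x : G) (k : ℕ) :
    x ^ (2 * k + 1) ∈ H ↔ x ∈ H := by
  rw [pow_succ, pow_mul, mul_mem_iff_of_index_two h]
  have : (x ^ 2) ^ k ∈ H := H.pow_mem (sq_mem_of_index_two h x) k
  tauto

/-- The data of the index-two subgroup. -/
structure HD (ι : X →* G) (P : Sylow 2 G) (H : Subgroup G) : Prop where
  norm : H.Normal
  idx : H.index = 2
  tH : ι tX ∉ H
  qH : ∀ x, isQ x → ι x ∈ H
  pH : ∀ g ∈ (P : Subgroup G), g ∈ H → ∃ x, isQ x ∧ g = ι x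

variable {ι : X →* G} {P : Sylow 2 G} (hD : Data ι P)

include hD

/-- conjugates of `z` that are in `Q`. -/
lemma conj_z_of_Q (hza : ∃ h : G, h * ι zX * h⁻¹ = ι aX) {x : X} (hx : isQ x) (hxx : x * x = 1)
    (hx1 : x ≠ 1) : ∃ h : G, h * ι zX * h⁻¹ = ι x := by
  obtain ⟨h₀, hh₀⟩ := hza
  rcases invol_Q x hx hxx hx1 with rfl | rfl | rfl | rfl | rfl
  · exact ⟨1, by simp⟩
  · obtain ⟨y, hy⟩ := exists_conj_zv
    exact ⟨ι y, by rw [← hy, map_mul, map_mul, map_inv]⟩
  · obtain ⟨y, hy⟩ := exists_conj_zvz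
    exact ⟨ι y, by rw [← hy, map_mul, map_mul, map_inv]⟩
  · exact ⟨h₀, hh₀⟩
  · refine ⟨ι vX * h₀, ?_⟩
    rw [← conj_a, map_mul, map_mul, map_inv, ← hh₀]
    group

theorem exists_H (hza : ∃ h : G, h * ι zX * h⁻¹ = ι aX) : ∃ H : Subgroup G, HD ι P H := by
  classical
  haveI : Fact (Nat.Prime 2) := ⟨Nat.prime_two⟩
  let Q : Subgroup G := QX.map ι
  have hQP : Q ≤ (P : Subgroup G) := by
    rintro _ ⟨x, hx, rfl⟩
    exact iot_mem_P hD (Q_le_T x hx)
  have hQcard : Nat.card Q = 8 := by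
    rw [Subgroup.card_map_of_injective hD.inj, card_QX]
  have hQi : Q.relIndex (P : Subgroup G) = 2 := by
    have h1 : Nat.card (Q.subgroupOf (P : Subgroup G)) * (Q.subgroupOf (P : Subgroup G)).index =
        Nat.card (P : Subgroup G) := Subgroup.card_mul_index _
    have h2 : Nat.card (Q.subgroupOf (P : Subgroup G)) = Nat.card Q :=
      Nat.card_congr (subgroupOfEquivOfLe hQP).toEquiv
    rw [h2, hQcard, card_P hD] at h1
    have h3 : Q.relIndex (P : Subgroup G) = (Q.subgroupOf (P : Subgroup G)).index := rfl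
    omega
  have htt := t_mul_t hD
  have ht1 := t_ne_one hD
  have hord : orderOf (ι tX) = 2 := orderOf_eq_prime (by rw [sq]; exact htt) ht1
  have htQ : ι tX ∉ Q := by
    rintro ⟨x, hx, hxt⟩
    have : x = tX := hD.inj hxt
    rw [this] at hx
    exact t_not_Q hx
  rcases Cfsg.Agent.S0111.result P Q hQP hQi (ι tX) hord (iot_mem_P hD t_isT) htQ with
    ⟨M, hMn, hMi, htM⟩ | ⟨g, hg⟩
  · haveI := hMn
    have hzM : ι zX ∈ M := by
      have := comm_mem_of_index_two hMi (ι vX) (ι aX)
      rwa [← map_inv, ← map_inv, ← map_mul, ← map_mul, ← map_mul, comm_va] at this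
    have hvM : ι vX ∈ M := by
      obtain ⟨y, hy⟩ := exists_conj_zv
      rw [← hy, map_mul, map_mul, map_inv]
      exact hMn.conj_mem _ hzM _
    have haM : ι aX ∈ M := by
      obtain ⟨h, hh⟩ := hza
      rw [← hh]
      exact hMn.conj_mem _ hzM _
    refine ⟨M, ⟨hMn, hMi, htM, ?_, ?_⟩⟩
    · intro x hx
      rcases Q_gen x hx with rfl | rfl | rfl | rfl | rfl | rfl | rfl | rfl
      · rw [map_one]; exact one_mem _
      · exact hzM
      · exact hvM
      · rw [map_mul]; exact mul_mem hvM hzM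
      · exact haM
      · rw [map_mul]; exact mul_mem haM hzM
      · rw [map_mul]; exact mul_mem hvM haM
      · rw [map_mul, map_mul]; exact mul_mem hvM (mul_mem haM hzM)
    · intro g hg hgM
      obtain ⟨x, hx, rfl⟩ := (hD.memP _).mp hg
      rcases T_eq_tQ x hx with h | h
      · exact ⟨x, h, rfl⟩
      · exfalso
        have h1 : ι (tX * x) ∈ M := by
          rcases Q_gen _ h with h' | h' | h' | h' | h' | h' | h' | h' <;> rw [h']
          · rw [map_one]; exact one_mem _
          · exact hzM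
          · exact hvM
          · rw [map_mul]; exact mul_mem hvM hzM
          · exact haM
          · rw [map_mul]; exact mul_mem haM hzM
          · rw [map_mul]; exact mul_mem hvM haM
          · rw [map_mul, map_mul]; exact mul_mem hvM (mul_mem haM hzM)
        rw [map_mul] at h1
        exact htM ((M.mul_mem_cancel_right hgM).mp h1)
  · exfalso
    obtain ⟨x, hx, hgx⟩ := hg
    change ι x = _ at hgx
    have hxx : x * x = 1 := by
      apply hD.inj
      rw [map_mul, hgx, map_one]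
      calc g * ι tX * g⁻¹ * (g * ι tX * g⁻¹) = g * (ι tX * ι tX) * g⁻¹ := by group
        _ = 1 := by rw [htt]; group
    have hx1 : x ≠ 1 := by
      rintro rfl
      rw [map_one] at hgx
      exact ht1 (conj_eq_one_iff.mp hgx.symm)
    obtain ⟨h, hh⟩ := conj_z_of_Q hD hza hx hxx hx1
    apply t_not_conj_z hD (h⁻¹ * g)
    have : (h⁻¹ * g) * ι tX * (h⁻¹ * g)⁻¹ = h⁻¹ * (g * ι tX * g⁻¹) * h := by group
    rw [this, ← hgx, ← hh]
    group

variable {H : Subgroup G} (hH : HD ι P H)

include hH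

/-- Conjugation by `G` on `z` is realised in `H`. -/
lemma conj_in_H (g : G) : ∃ h ∈ H, g * ι zX * g⁻¹ = h * ι zX * h⁻¹ := by
  by_cases hg : g ∈ H
  · exact ⟨g, hg, rfl⟩
  · refine ⟨g * ι tX, ?_, ?_⟩
    · rw [mul_mem_iff_of_index_two hH.idx]
      exact iff_of_false hg hH.tH
    · have h0 : ι tX * ι zX = ι zX * ι tX := (t_comm hD zX).symm
      have hi : (ι tX)⁻¹ = ι tX := inv_eq_of_mul_eq_one_left (t_mul_t hD)
      calc g * ι zX * g⁻¹ = g * (ι zX * ι tX * ι tX) * g⁻¹ := by rw [mul_assoc (ι zX), t_mul_t hD, mul_one]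
        _ = g * (ι tX * ι zX * ι tX) * g⁻¹ := by rw [h0]
        _ = g * ι tX * ι zX * (g * ι tX)⁻¹ := by
          rw [mul_inv_rev, hi]; group

lemma card_G_eq : ∃ m : ℕ, Odd m ∧ Nat.card G = 16 * m ∧ Nat.card H = 8 * m := by
  classical
  haveI : Fact (Nat.Prime 2) := ⟨Nat.prime_two⟩
  have h1 : Nat.card (P : Subgroup G) * (P : Subgroup G).index = Nat.card G := Subgroup.card_mul_index _
  have h2 := P.not_dvd_index
  rw [card_P hD] at h1
  have h3 := Subgroup.card_mul_index H
  rw [hH.idx] at h3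
  refine ⟨(P : Subgroup G).index, Nat.odd_iff.mpr (by omega), h1.symm, by omega⟩

/-- `H` has no subgroup of index two. -/
lemma no_index_two (hza : ∃ h : G, h * ι zX * h⁻¹ = ι aX) (L : Subgroup H) : L.index ≠ 2 := by
  classical
  intro hL
  haveI hLn : L.Normal := Subgroup.normal_of_index_eq_two hL
  have hzH : ι zX ∈ H := hH.qH _ Q_z
  have hvH : ι vX ∈ H := hH.qH _ Q_v
  have haH : ι aX ∈ H := hH.qH _ Q_a
  have hzL : (⟨ι zX, hzH⟩ : H) ∈ L := by
    have := comm_mem_of_index_two hL (⟨ι vX, hvH⟩ : H) (⟨ι aX, haH⟩ : H)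
    convert this using 1
    apply Subtype.ext
    show ι zX = ι vX * ι aX * (ι vX)⁻¹ * (ι aX)⁻¹
    rw [← map_inv, ← map_inv, ← map_mul, ← map_mul, ← map_mul, comm_va]
  have hconj : ∀ (x : X) (hx0 : isQ x), x * x = 1 → x ≠ 1 → (⟨ι x, hH.qH x hx0⟩ : H) ∈ L := by
    intro x hx hxx hx1
    obtain ⟨g, hg⟩ := conj_z_of_Q hD hza hx hxx hx1
    obtain ⟨h, hh, hgh⟩ := conj_in_H hD hH g
    have := hLn.conj_mem _ hzL ⟨h, hh⟩
    convert this using 1
    apply Subtype.ext
    show ι x = h * ι zX * h⁻¹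
    rw [← hgh, hg]
  have hmem : ∀ x : X, ∀ hx : isQ x, (⟨ι x, hH.qH x hx⟩ : H) ∈ L := by
    have hv' := hconj vX Q_v (by decide +kernel) (by decide +kernel)
    have ha' := hconj aX Q_a (by decide +kernel) (by decide +kernel)
    intro x hx
    rcases Q_gen x hx with rfl | rfl | rfl | rfl | rfl | rfl | rfl | rfl
    · convert L.one_mem using 1
      exact Subtype.ext (map_one ι)
    · exact hzL
    · exact hv'
    · convert L.mul_mem hv' hzL using 1
      exact Subtype.ext (map_mul ι _ _)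
    · exact ha'
    · convert L.mul_mem ha' hzL using 1
      exact Subtype.ext (map_mul ι _ _)
    · convert L.mul_mem hv' ha' using 1
      exact Subtype.ext (map_mul ι _ _)
    · convert L.mul_mem hv' (L.mul_mem ha' hzL) using 1
      apply Subtype.ext
      show ι (vX * (aX * zX)) = ι vX * (ι aX * ι zX)
      rw [map_mul, map_mul]
  -- `8 ∣ |L|`
  have hdvd : 8 ∣ Nat.card L := by
    let φ : QX →* L :=
      { toFun := fun x => ⟨⟨ι x.1, hH.qH x.1 x.2⟩, hmem x.1 x.2⟩
        map_one' := Subtype.ext (Subtype.ext (map_one ι))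
        map_mul' := fun a b => Subtype.ext (Subtype.ext (map_mul ι a.1 b.1)) }
    have hφ : Function.Injective φ := by
      intro a b hab
      have h1 : ι a.1 = ι b.1 := congrArg (fun y : L => ((y : H) : G)) hab
      exact Subtype.ext (hD.inj h1)
    have := Subgroup.card_dvd_of_injective φ hφ
    rwa [card_QX] at this
  obtain ⟨m, hm, -, hHcard⟩ := card_G_eq hD hH
  have h3 := Subgroup.card_mul_index L
  rw [hL, hHcard] at h3
  obtain ⟨k, hk⟩ := hdvd
  obtain ⟨l, hl⟩ := hm
  omega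

/-- The centraliser of `z` in `H`. -/
lemma exists_cEquiv (hzH : ι zX ∈ H) :
    Nonempty (centralizer ({(⟨ι zX, hzH⟩ : H)} : Set H) ≃* DihedralGroup 4) := by
  let J : DihedralGroup 4 →* centralizer ({(⟨ι zX, hzH⟩ : H)} : Set H) :=
    { toFun := fun d => ⟨⟨ι (dih d), hH.qH _ (dih_isQ d)⟩, by
        rw [mem_centralizer_singleton_iff]
        apply Subtype.ext
        exact (comm_iff hD _ _).mpr (zX_central_T _ (Q_le_T _ (dih_isQ d)))⟩
      map_one' := by
        apply Subtype.ext
        apply Subtype.ext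
        show ι (dih 1) = 1
        rw [map_one, map_one]
      map_mul' := fun a b => by
        apply Subtype.ext
        apply Subtype.ext
        show ι (dih (a * b)) = ι (dih a) * ι (dih b)
        rw [map_mul, map_mul] }
  have hJ : Function.Bijective J := by
    constructor
    · intro a b hab
      have h1 : ι (dih a) = ι (dih b) :=
        congrArg (fun y : centralizer ({(⟨ι zX, hzH⟩ : H)} : Set H) => ((y : H) : G)) hab
      exact dih_inj _ _ (hD.inj h1)
    · rintro ⟨⟨g, hg⟩, hgc⟩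
      have h1 : (⟨g, hg⟩ : H) * ⟨ι zX, hzH⟩ = ⟨ι zX, hzH⟩ * ⟨g, hg⟩ :=
        mem_centralizer_singleton_iff.mp hgc
      have h2 : g * ι zX = ι zX * g := congrArg Subtype.val h1
      obtain ⟨x, hx, rfl⟩ := hH.pH g (hD.czz g h2) hg
      obtain ⟨d, rfl⟩ := dih_surj x hx
      exact ⟨d, rfl⟩
  exact ⟨(MulEquiv.ofBijective J hJ).symm⟩

/-- The conclusion of the dihedral analysis. -/
theorem simple_and_card (hza : ∃ h : G, h * ι zX * h⁻¹ = ι aX) :
    IsSimpleGroup H ∧ (Nat.card H = 168 ∨ Nat.card H = 360) := by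
  have hzH : ι zX ∈ H := hH.qH _ Q_z
  have hord : orderOf (⟨ι zX, hzH⟩ : H) = 2 := by
    apply orderOf_eq_prime
    · apply Subtype.ext
      show ι zX ^ 2 = 1
      rw [sq]; exact z_mul_z hD
    · intro h
      exact z_ne_one hD (congrArg Subtype.val h)
  have hidx := no_index_two hD hH hza
  obtain ⟨e⟩ := exists_cEquiv hD hH hzH
  exact ⟨Cfsg.Agent.Lib.Invol8.Simple.isSimpleGroup_of _ e hord hidx,
    Cfsg.Agent.Lib.Invol8.Main.card_eq_168_or_360 _ e hord hidx⟩

/-- `G` is not solvable. -/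
theorem not_solvable (hs : IsSimpleGroup H) : ¬ Group.IsSolvable G := by
  intro hsol
  have h1 : Group.IsSolvable H := Group.isSolvable_of_isSolvable_injective (f := H.subtype) (subtype_injective H)
  have h2 := IsSimpleGroup.comm_iff_isSolvable.mpr h1
  have hvH : ι vX ∈ H := hH.qH _ Q_v
  have haH : ι aX ∈ H := hH.qH _ Q_a
  have h3 : ι vX * ι aX = ι aX * ι vX := congrArg Subtype.val (h2 ⟨_, hvH⟩ ⟨_, haH⟩)
  have h4 := (comm_iff hD _ _).mp h3
  have h5 : vX * aX = aX * vX := h4
  exact absurd h5 (by decide +kernel)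

end Cfsg.Agent.Lib.S6Cent.Case2
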