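import Cfsg.Agent.Lib.S6Cent.Case2
import Cfsg.Agent.Lib.S6Cent.A6Aut
import Cfsg.Agent.S0497
import Cfsg.Agent.Lib.CompLen.Factors

set_option autoImplicit false
set_option linter.style.haveILetI false
set_option linter.unusedVariables false
set_option linter.unusedSectionVars false
set_option linter.unnecessarySeqFocus false
set_option maxRecDepth 100000
set_option synthInstance.maxHeartbeats 0
set_option synthInstance.maxSize 4096

/-!
# `|H| = 168` is impossible, `|H| = 360` gives `S₆`
-/

namespace Cfsg.Agent.Lib.S6Cent.Final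

open Subgroup Cfsg.Agent.Lib.S6Cent.Basic Cfsg.Agent.Lib.S6Cent.Setup
open Cfsg.Agent.Lib.S6Cent.Case2
open scoped Pointwise

lemma tX_ne_one' : tX ≠ 1 := by decide +kernel
lemma tzX_ne_one' : tX * zX ≠ 1 := by decide +kernel

variable {G : Type*} [Group G] [Finite G]
variable {ι : X →* G} {P : Sylow 2 G} (hD : Data ι P) {H : Subgroup G} (hH : HD ι P H)

include hD hH

/-- An element centralising `H` and `t` is central. -/
lemma central_of {y : G} (hyH : ∀ h ∈ H, y * h = h * y) (hyt : y * ι tX = ι tX * y) (g : G) :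
    g * y = y * g := by
  by_cases hg : g ∈ H
  · exact (hyH g hg).symm
  · have h1 : g * ι tX ∈ H := by
      rw [mul_mem_iff_of_index_two hH.idx]
      exact iff_of_false hg hH.tH
    have h2 := hyH _ h1
    calc g * y = (g * ι tX) * (ι tX)⁻¹ * y := by group
      _ = (g * ι tX) * (y * (ι tX)⁻¹) := by
        have : (ι tX)⁻¹ * y = y * (ι tX)⁻¹ := by
          rw [inv_mul_eq_iff_eq_mul, ← mul_assoc, ← hyt]; group
        rw [mul_assoc, this, mul_assoc]
      _ = ((g * ι tX) * y) * (ι tX)⁻¹ := by group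
      _ = (y * (g * ι tX)) * (ι tX)⁻¹ := by rw [h2]
      _ = y * g := by group

/-- `t` is not central. -/
lemma t_not_central (hG : Nat.card G ≠ 48) : ¬ ∀ g : G, g * ι tX = ι tX * g := by
  intro h
  have h1 : centralizer ({ι tX} : Set G) = ⊤ := by
    rw [eq_top_iff]
    intro g _
    rw [mem_centralizer_singleton_iff]
    exact h g
  have h2 := card_Ct hD
  rw [h1, Subgroup.card_top] at h2
  exact hG h2

theorem case168 (hs : IsSimpleGroup H) (h168 : Nat.card H = 168)
    (hta : ∃ h : G, h * ι tX * h⁻¹ = ι (tX * aX)) : False := by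
  classical
  haveI hHn : H.Normal := hH.norm
  haveI f7 : Fact (Nat.Prime 7) := ⟨by norm_num⟩
  haveI f2 : Fact (Nat.Prime 2) := ⟨Nat.prime_two⟩
  have hGc : Nat.card G = 336 := by
    have := Subgroup.card_mul_index H
    rw [hH.idx, h168] at this
    omega
  obtain ⟨S⟩ : Nonempty (Sylow 7 G) := inferInstance
  have hS7 : Nat.card (S : Subgroup G) = 7 := by
    obtain ⟨k, hk⟩ := IsPGroup.iff_card.mp S.isPGroup'
    have hi := Subgroup.card_mul_index (S : Subgroup G)
    have hn := S.not_dvd_index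
    rw [hk, hGc] at hi
    rcases k with _ | _ | k
    · simp only [pow_zero, one_mul] at hi
      rw [hi] at hn
      norm_num at hn
    · rw [hk]; norm_num
    · exfalso
      have h49 : (49 : ℕ) ∣ 7 ^ (k + 2) := ⟨7 ^ k, by ring⟩
      have : (49 : ℕ) ∣ 336 := dvd_trans h49 ⟨_, hi.symm⟩
      norm_num at this
  have hSindex : (S : Subgroup G).index = 48 := by
    have hi := Subgroup.card_mul_index (S : Subgroup G)
    rw [hS7, hGc] at hi
    omega
  have hSH : (S : Subgroup G) ≤ H := by
    intro x hx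
    have h7 : x ^ 7 = 1 := by
      have := pow_card_eq_one' (x := (⟨x, hx⟩ : (S : Subgroup G)))
      rw [hS7] at this
      exact congrArg Subtype.val this
    apply (odd_pow_mem_iff hH.idx x 3).mp
    rw [show 2 * 3 + 1 = 7 from rfl, h7]
    exact one_mem _
  have hSub : Nat.card ((S : Subgroup G).subgroupOf H) = 7 := by
    rw [Nat.card_congr (subgroupOfEquivOfLe hSH).toEquiv, hS7]
  have hn1 : Nat.card (Sylow 7 G) % 7 = 1 := card_sylow_modEq_one 7 G
  have hdv : Nat.card (Sylow 7 G) ∣ 48 := by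
    have := S.card_dvd_index
    rwa [hSindex] at this
  have hnle := Nat.le_of_dvd (by norm_num) hdv
  have hkey : ∀ n : ℕ, n ≤ 48 → n ∣ 48 → n % 7 = 1 → n = 1 ∨ n = 8 := by decide
  have hN : ∀ R : Sylow 7 G, Nat.card (normalizer ((R : Subgroup G) : Set G)) * Nat.card (Sylow 7 G) = 336 := by
    intro R
    have h1 := Subgroup.card_mul_index (normalizer ((R : Subgroup G) : Set G))
    have h2 : Nat.card (Sylow 7 G) = (normalizer ((R : Subgroup G) : Set G)).index :=
      Sylow.card_eq_index_normalizer R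
    rw [← h2, hGc] at h1
    exact h1
  have hn8 : Nat.card (Sylow 7 G) = 8 := by
    rcases hkey _ hnle hdv hn1 with h | h
    · exfalso
      have h1 := hN S
      rw [h, mul_one, ← hGc] at h1
      have h2 : normalizer ((S : Subgroup G) : Set G) = ⊤ := by
        apply Subgroup.eq_top_of_card_eq
        exact h1
      have h3 : (S : Subgroup G).Normal := normalizer_eq_top_iff.mp h2
      have h4 : ((S : Subgroup G).subgroupOf H).Normal := h3.subgroupOf H
      rcases h4.eq_bot_or_eq_top with h5 | h5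
      · rw [h5] at hSub
        simp at hSub
      · rw [h5, Subgroup.card_top, h168] at hSub
        omega
    · exact h
  have hNS : Nat.card (normalizer ((S : Subgroup G) : Set G)) = 42 := by
    have := hN S
    rw [hn8] at this
    omega
  -- an involution outside `H` normalising `S`
  have hsup : normalizer ((S : Subgroup G) : Set G) ⊔ H = ⊤ := Sylow.normalizer_sup_eq_top' S hSH
  obtain ⟨w, hwN, hwH⟩ : ∃ w ∈ normalizer ((S : Subgroup G) : Set G), w ∉ H := by
    by_contra hcon
    push Not at hcon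
    have : normalizer ((S : Subgroup G) : Set G) ≤ H := hcon
    rw [sup_eq_right.mpr this] at hsup
    apply hH.tH
    rw [hsup]
    exact mem_top _
  have hw42 : w ^ 42 = 1 := by
    have := pow_card_eq_one' (x := (⟨w, hwN⟩ : normalizer ((S : Subgroup G) : Set G)))
    rw [hNS] at this
    exact congrArg Subtype.val this
  set u := w ^ 21 with hu
  have huN : u ∈ normalizer ((S : Subgroup G) : Set G) := pow_mem hwN 21
  have huH : u ∉ H := fun h => hwH ((odd_pow_mem_iff hH.idx w 10).mp h)
  have huu : u * u = 1 := by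
    rw [hu, ← pow_add]
    exact hw42
  have hu1 : u ≠ 1 := fun h => huH (by rw [h]; exact one_mem _)
  have hord : orderOf u = 2 := orderOf_eq_prime (by rw [sq]; exact huu) hu1
  have hpg : IsPGroup 2 (zpowers u) := by
    apply IsPGroup.of_card (n := 1)
    rw [Nat.card_zpowers, hord]; norm_num
  obtain ⟨Q', hQ'⟩ := hpg.exists_le_sylow
  have huQ' : u ∈ (Q' : Subgroup G) := hQ' (mem_zpowers u)
  obtain ⟨g₀, hg₀⟩ := MulAction.exists_smul_eq G Q' P
  have hu₁ : g₀ * u * g₀⁻¹ ∈ (P : Subgroup G) := by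
    rw [← hg₀]
    have h1 : ((g₀ • Q' : Sylow 2 G) : Subgroup G) = MulAut.conj g₀ • (Q' : Subgroup G) := rfl
    rw [h1]
    exact Subgroup.smul_mem_pointwise_smul u (MulAut.conj g₀) _ huQ'
  obtain ⟨x, hx, hgx⟩ := (hD.memP _).mp hu₁
  have hxx : x * x = 1 := by
    apply hD.inj
    rw [map_mul, ← hgx, map_one]
    calc g₀ * u * g₀⁻¹ * (g₀ * u * g₀⁻¹) = g₀ * (u * u) * g₀⁻¹ := by group
      _ = 1 := by rw [huu]; group
  have hx1 : x ≠ 1 := by
    rintro rfl
    rw [map_one] at hgx
    exact hu1 (conj_eq_one_iff.mp hgx)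
  have hxH : ι x ∉ H := by
    rw [← hgx]
    intro h
    apply huH
    have := hHn.conj_mem _ h g₀⁻¹
    simpa [mul_assoc] using this
  -- reduce to `t` or `tz`
  have hreduce : ∃ (y : X) (g₂ : G), (y = tX ∨ y = tX * zX) ∧ g₂ * u * g₂⁻¹ = ι y := by
    have hQH : ∀ z, isQ z → ι z ∉ H → False := fun z hz h => h (hH.qH z hz)
    have hcomm : ∀ (y : X), ι (tX * (y * zX * y⁻¹)) = ι y * (ι tX * ι zX) * (ι y)⁻¹ := by
      intro y
      have h0 := t_comm hD y
      rw [map_mul, map_mul, map_mul, map_inv]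
      calc ι tX * (ι y * ι zX * (ι y)⁻¹) = (ι tX * ι y) * ι zX * (ι y)⁻¹ := by group
        _ = (ι y * ι tX) * ι zX * (ι y)⁻¹ := by rw [h0]
        _ = _ := by group
    rcases invol_T x hx hxx hx1 with h | h | h | h | h | h | h | h | h | h | h
    · exact ⟨tX, g₀, Or.inl rfl, by rw [hgx, h]⟩
    · rw [h] at hxH
      exact (hQH _ Q_z hxH).elim
    · rw [h] at hxH
      exact (hQH _ Q_v hxH).elim
    · rw [h] at hxH
      exact (hQH _ (by decide +kernel) hxH).elim
    · exact ⟨tX * zX, g₀, Or.inr rfl, by rw [hgx, h]⟩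
    · obtain ⟨y, hy⟩ := exists_conj_zv
      refine ⟨tX * zX, (ι y)⁻¹ * g₀, Or.inr rfl, ?_⟩
      have h1 : ι x = ι y * (ι tX * ι zX) * (ι y)⁻¹ := by rw [h, ← hy, hcomm]
      have h2 : (ι y)⁻¹ * g₀ * u * ((ι y)⁻¹ * g₀)⁻¹ = (ι y)⁻¹ * (g₀ * u * g₀⁻¹) * ι y := by group
      rw [h2, hgx, h1, map_mul]
      group
    · obtain ⟨y, hy⟩ := exists_conj_zvz
      refine ⟨tX * zX, (ι y)⁻¹ * g₀, Or.inr rfl, ?_⟩
      have h1 : ι x = ι y * (ι tX * ι zX) * (ι y)⁻¹ := by rw [h, ← hy, hcomm]
      have h2 : (ι y)⁻¹ * g₀ * u * ((ι y)⁻¹ * g₀)⁻¹ = (ι y)⁻¹ * (g₀ * u * g₀⁻¹) * ι y := by group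
      rw [h2, hgx, h1, map_mul]
      group
    · rw [h] at hxH
      exact (hQH _ Q_a hxH).elim
    · rw [h] at hxH
      exact (hQH _ (by decide +kernel) hxH).elim
    · obtain ⟨h₀, hh₀⟩ := hta
      refine ⟨tX, h₀⁻¹ * g₀, Or.inl rfl, ?_⟩
      have h2 : h₀⁻¹ * g₀ * u * (h₀⁻¹ * g₀)⁻¹ = h₀⁻¹ * (g₀ * u * g₀⁻¹) * h₀ := by group
      rw [h2, hgx, h, ← hh₀]
      group
    · obtain ⟨h₀, hh₀⟩ := hta
      refine ⟨tX, h₀⁻¹ * (ι vX)⁻¹ * g₀, Or.inl rfl, ?_⟩
      have h3 : ι x = ι vX * ι (tX * aX) * (ι vX)⁻¹ := by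
        have h0 := t_comm hD vX
        rw [h, ← conj_a]
        simp only [map_mul, map_inv]
        calc ι tX * (ι vX * ι aX * (ι vX)⁻¹) = (ι tX * ι vX) * ι aX * (ι vX)⁻¹ := by group
          _ = (ι vX * ι tX) * ι aX * (ι vX)⁻¹ := by rw [h0]
          _ = _ := by group
      have h2 : h₀⁻¹ * (ι vX)⁻¹ * g₀ * u * (h₀⁻¹ * (ι vX)⁻¹ * g₀)⁻¹ =
          h₀⁻¹ * (ι vX)⁻¹ * (g₀ * u * g₀⁻¹) * ι vX * h₀ := by group
      rw [h2, hgx, h3, ← hh₀]
      group
  obtain ⟨y, g₂, hy, hg₂⟩ := hreduce
  have hyc : ∀ s : X, isT s → s * y = y * s := by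
    rcases hy with rfl | rfl
    · exact fun s _ => tX_central s
    · exact center_T_tz
  have hyP : ∀ s ∈ (P : Subgroup G), s * ι y = ι y * s := by
    intro s hs0
    obtain ⟨s', hs', rfl⟩ := (hD.memP _).mp hs0
    exact (comm_iff hD _ _).mpr (hyc s' hs')
  -- the Sylow subgroup normalised by `y`
  let R : Sylow 7 G := g₂ • S
  have hyR : ι y • R = R := by
    have h1 : u • S = S := Sylow.smul_eq_iff_mem_normalizer.mpr huN
    have h2 : ι y * g₂ = g₂ * u := by
      rw [← hg₂]; group
    show ι y • g₂ • S = g₂ • S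
    rw [← mul_smul, h2, mul_smul, h1]
  -- the orbit
  have horbit : MulAction.orbit (P : Subgroup G) R = Set.univ := by
    have h1 : Nat.card (MulAction.orbit (P : Subgroup G) R) *
        Nat.card (MulAction.stabilizer (P : Subgroup G) R) = Nat.card (P : Subgroup G) := by
      rw [← Nat.card_prod]
      exact Nat.card_congr (MulAction.orbitProdStabilizerEquivGroup (P : Subgroup G) R)
    rw [card_P hD] at h1
    have h2 : Nat.card (MulAction.stabilizer (P : Subgroup G) R) ∣ 16 := by
      have := Subgroup.card_subgroup_dvd_card (MulAction.stabilizer (P : Subgroup G) R)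
      rwa [card_P hD] at this
    have h3 : Nat.card (MulAction.stabilizer (P : Subgroup G) R) ∣ 42 := by
      have hnorm := hN R
      rw [hn8] at hnorm
      have hnorm2 : Nat.card (normalizer ((R : Subgroup G) : Set G)) = 42 := by omega
      rw [← hnorm2]
      let φ : MulAction.stabilizer (P : Subgroup G) R →* normalizer ((R : Subgroup G) : Set G) :=
        { toFun := fun s => ⟨(s.1 : G), Sylow.smul_eq_iff_mem_normalizer.mp s.2⟩
          map_one' := rfl
          map_mul' := fun _ _ => rfl }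
      have hφ : Function.Injective φ := by
        intro a b hab
        have h5 : ((a.1 : (P : Subgroup G)) : G) = b.1 :=
          congrArg (fun y : normalizer ((R : Subgroup G) : Set G) => (y : G)) hab
        exact Subtype.ext (Subtype.ext h5)
      exact Subgroup.card_dvd_of_injective φ hφ
    have h4 : Nat.card (MulAction.stabilizer (P : Subgroup G) R) ∣ 2 := by
      have := Nat.dvd_gcd h2 h3
      simpa using this
    have h5 := Nat.le_of_dvd (by norm_num) h4
    have h6 : 8 ≤ Nat.card (MulAction.orbit (P : Subgroup G) R) := by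
      by_contra hlt
      push Not at hlt
      have : Nat.card (MulAction.orbit (P : Subgroup G) R) * Nat.card (MulAction.stabilizer (P : Subgroup G) R) ≤ 7 * 2 :=
        Nat.mul_le_mul (by omega) h5
      omega
    apply Set.eq_of_subset_of_ncard_le (Set.subset_univ _)
    rw [Set.ncard_univ, hn8, ← Nat.card_coe_set_eq]
    exact h6
  have hyall : ∀ R' : Sylow 7 G, ι y • R' = R' := by
    intro R'
    have : R' ∈ MulAction.orbit (P : Subgroup G) R := by rw [horbit]; trivial
    obtain ⟨s, rfl⟩ := this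
    show ι y • (s : G) • R = (s : G) • R
    rw [← mul_smul, ← hyP s.1 s.2, mul_smul, hyR]
  -- the kernel of the action
  let K := (MulAction.toPermHom G (Sylow 7 G)).ker
  haveI hKn : K.Normal := MonoidHom.normal_ker _
  have hmemK : ∀ g : G, g ∈ K ↔ ∀ R' : Sylow 7 G, g • R' = R' := by
    intro g
    rw [MonoidHom.mem_ker]
    constructor
    · intro h R'
      have := congrArg (fun p : Equiv.Perm (Sylow 7 G) => p R') h
      simpa using this
    · intro h
      ext1 R'
      simpa using h R'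
  have hyK : ι y ∈ K := (hmemK _).mpr hyall
  have hKH : K.subgroupOf H = ⊥ := by
    have h4 : (K.subgroupOf H).Normal := hKn.subgroupOf H
    rcases h4.eq_bot_or_eq_top with h5 | h5
    · exact h5
    · exfalso
      have h6 : H ≤ normalizer ((S : Subgroup G) : Set G) := by
        intro h hh
        have h7 : (⟨h, hh⟩ : H) ∈ K.subgroupOf H := by rw [h5]; exact mem_top _
        have h8 : h ∈ K := h7
        exact Sylow.smul_eq_iff_mem_normalizer.mp ((hmemK h).mp h8 S)
      have h7 := Subgroup.card_le_of_le h6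
      rw [h168, hNS] at h7
      omega
  have hycomm : ∀ h ∈ H, ι y * h = h * ι y := by
    intro h hh
    have h1 : ι y * h * (ι y)⁻¹ * h⁻¹ ∈ K := by
      have h2 : h * (ι y)⁻¹ * h⁻¹ ∈ K := hKn.conj_mem _ (inv_mem hyK) h
      have h3 : ι y * h * (ι y)⁻¹ * h⁻¹ = ι y * (h * (ι y)⁻¹ * h⁻¹) := by group
      rw [h3]
      exact mul_mem hyK h2
    have h4 : ι y * h * (ι y)⁻¹ * h⁻¹ ∈ H :=
      mul_mem (hHn.conj_mem _ hh _) (inv_mem hh)
    have h5 : (⟨_, h4⟩ : H) ∈ K.subgroupOf H := h1
    rw [hKH, mem_bot] at h5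
    have h6 : ι y * h * (ι y)⁻¹ * h⁻¹ = 1 := congrArg Subtype.val h5
    have h7 : ι y * h * (ι y)⁻¹ = h := mul_inv_eq_one.mp h6
    calc ι y * h = (ι y * h * (ι y)⁻¹) * ι y := by group
      _ = h * ι y := by rw [h7]
  have hcent := central_of hD hH hycomm (t_comm hD y)
  rcases central_eq hD hcent with h1 | h1
  · have h2 : y = 1 := hD.inj (by rw [h1, map_one])
    rcases hy with rfl | rfl
    · exact absurd h2 tX_ne_one'
    · exact absurd h2 tzX_ne_one'
  · have h2 : y = tX := hD.inj h1
    rw [h2] at hcent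
    exact t_not_central hD hH (by omega) (fun g => hcent g)

open Cfsg.Agent.Lib.S6Cent.A6Aut in
theorem case360 (hs : IsSimpleGroup H) (h360 : Nat.card H = 360) :
    Nonempty (G ≃* Equiv.Perm (Fin 6)) := by
  classical
  haveI hHn : H.Normal := hH.norm
  have hGc : Nat.card G = 720 := by
    have := Subgroup.card_mul_index H
    rw [hH.idx, h360] at this
    omega
  obtain ⟨φ⟩ := Cfsg.Agent.S0497.result (G := H) h360
  let ρ : G →* MulAut A6 := (MulAut.congr φ).toMonoidHom.comp (MulAut.conjNormal (H := H))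
  let ψ : S6 →* MulAut A6 := MulAut.conjNormal (H := alternatingGroup (Fin 6))
  have hρ : ∀ (g : G) (x : A6), ρ g x = φ (MulAut.conjNormal g (φ.symm x)) := fun g x => rfl
  have hψ : ∀ (σ : S6) (x : A6), ((ψ σ x : A6) : S6) = σ * x * σ⁻¹ := fun σ x =>
    MulAut.conjNormal_apply σ x
  -- the image of `H`
  have hinner : ∀ h : H, ρ (h : G) = ψ ((φ h : A6) : S6) := by
    intro h
    ext x
    rw [hρ, hψ]
    have h1 : MulAut.conjNormal (h : G) (φ.symm x) = h * φ.symm x * h⁻¹ := by
      apply Subtype.ext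
      rw [MulAut.conjNormal_apply]
      rfl
    rw [h1, map_mul, map_mul, map_inv, MulEquiv.apply_symm_apply]
    rfl
  -- `t`
  have ht : ρ (ι tX) ∈ ψ.range := by
    have hr3 : ι rX ∈ H := by
      apply (odd_pow_mem_iff hH.idx (ι rX) 1).mp
      have h3 : rX ^ (2 * 1 + 1) = 1 := by decide +kernel
      rw [← map_pow, h3, map_one]
      exact one_mem _
    let c₀ : H := ⟨ι rX, hr3⟩
    have hc : orderOf (φ c₀) = 3 := by
      rw [MulEquiv.orderOf_eq, Subgroup.orderOf_mk, orderOf_injective ι hD.inj, orderOf_rP]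
    have hfix : ρ (ι tX) (φ c₀) = φ c₀ := by
      rw [hρ, MulEquiv.symm_apply_apply]
      congr 1
      apply Subtype.ext
      rw [MulAut.conjNormal_apply]
      show ι tX * ι rX * (ι tX)⁻¹ = ι rX
      rw [(t_comm hD rX).symm]
      group
    obtain ⟨σ, hσ⟩ := exists_perm_of_fix (ρ (ι tX)) (φ c₀) hc hfix
    refine ⟨σ, ?_⟩
    ext x
    rw [hψ, hσ]
  have hall : ρ.range ≤ ψ.range := by
    rintro _ ⟨g, rfl⟩
    by_cases hg : g ∈ H
    · exact ⟨_, (hinner ⟨g, hg⟩).symm⟩
    · have h1 : ι tX * g ∈ H := by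
        rw [mul_mem_iff_of_index_two hH.idx]
        exact iff_of_false hH.tH hg
      have h2 : g = (ι tX)⁻¹ * (ι tX * g) := by group
      rw [h2, map_mul, map_inv]
      exact mul_mem (inv_mem ht) ⟨_, (hinner ⟨_, h1⟩).symm⟩
  -- injectivity
  have hρinj : Function.Injective ρ := by
    rw [← MonoidHom.ker_eq_bot_iff, eq_bot_iff]
    intro g hg
    rw [MonoidHom.mem_ker] at hg
    rw [mem_bot]
    have hcomm : ∀ h ∈ H, g * h = h * g := by
      intro h hh
      have h1 : ρ g (φ ⟨h, hh⟩) = φ ⟨h, hh⟩ := by rw [hg]; rfl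
      rw [hρ, MulEquiv.symm_apply_apply] at h1
      have h2 := φ.injective h1
      have h3 : g * h * g⁻¹ = h := by
        have h4 := congrArg Subtype.val h2
        rwa [MulAut.conjNormal_apply] at h4
      calc g * h = (g * h * g⁻¹) * g := by group
        _ = h * g := by rw [h3]
    by_cases hgH : g ∈ H
    · -- central in `H`
      have hcen : (⟨g, hgH⟩ : H) ∈ center H := by
        rw [mem_center_iff]
        intro h
        exact Subtype.ext (hcomm h.1 h.2).symm
      rcases (Subgroup.Normal.eq_bot_or_eq_top (inferInstance : (center H).Normal)) with h5 | h5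
      · rw [h5, mem_bot] at hcen
        exact congrArg Subtype.val hcen
      · exfalso
        have hvH := hH.qH _ Q_v
        have haH := hH.qH _ Q_a
        have h6 : (⟨ι vX, hvH⟩ : H) ∈ center H := by rw [h5]; exact mem_top _
        have h7 := mem_center_iff.mp h6 ⟨ι aX, haH⟩
        have h8 : ι aX * ι vX = ι vX * ι aX := congrArg Subtype.val h7
        have h9 := (comm_iff hD _ _).mp h8
        exact absurd h9 (by decide +kernel)
    · -- central in `G`
      exfalso
      have hcg : ∀ x : G, x * g = g * x := by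
        intro x
        by_cases hx : x ∈ H
        · exact (hcomm x hx).symm
        · have h1 : g * x ∈ H := by
            rw [mul_mem_iff_of_index_two hH.idx]
            exact iff_of_false hgH hx
          have h2 := hcomm _ h1
          have h3 : g * (g * x) = (g * x) * g := h2
          rw [mul_assoc] at h3
          exact (mul_left_cancel h3).symm
      rcases central_eq hD hcg with h1 | h1
      · exact hgH (by rw [h1]; exact one_mem _)
      · rw [h1] at hcg
        exact t_not_central hD hH (by omega) hcg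
  have hψinj : Function.Injective ψ := by
    have hdec : ∀ σ : S6, σ * xP = xP * σ → σ * yP = yP * σ → σ = 1 := by decide +kernel
    rw [← MonoidHom.ker_eq_bot_iff, eq_bot_iff]
    intro σ hσ
    rw [MonoidHom.mem_ker] at hσ
    rw [mem_bot]
    have hcom : ∀ x : A6, σ * (x : S6) = x * σ := by
      intro x
      have h1 : ψ σ x = x := by rw [hσ]; rfl
      have h2 : σ * x * σ⁻¹ = x := by rw [← hψ, h1]
      calc σ * (x : S6) = (σ * x * σ⁻¹) * σ := by group
        _ = x * σ := by rw [h2]
    exact hdec σ (hcom ⟨xP, mem_A sign_x⟩) (hcom ⟨yP, mem_A sign_y⟩)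
  have hcard1 : Nat.card ρ.range = 720 := by
    rw [← hGc]
    exact Nat.card_congr (MonoidHom.ofInjective hρinj).symm.toEquiv
  have hcard2 : Nat.card ψ.range = 720 := by
    have h1 : Nat.card ψ.range = Nat.card S6 :=
      Nat.card_congr (MonoidHom.ofInjective hψinj).symm.toEquiv
    rw [h1, Nat.card_eq_fintype_card, Fintype.card_perm, Fintype.card_fin]
    rfl
  have heq : ρ.range = ψ.range := Subgroup.eq_of_le_of_card_ge hall (by omega)
  exact ⟨(MonoidHom.ofInjective hρinj).trans
    ((MulEquiv.subgroupCongr heq).trans (MonoidHom.ofInjective hψinj).symm)⟩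

end Cfsg.Agent.Lib.S6Cent.Final
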