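import Cfsg.Agent.Lib.S6Cent.Final
import Cfsg.Agent.Lib.CompLen.Factors

set_option autoImplicit false
set_option linter.style.haveILetI false
set_option linter.unusedVariables false
set_option linter.unusedSectionVars false
set_option linter.unnecessarySeqFocus false
set_option maxRecDepth 100000
set_option synthInstance.maxHeartbeats 0
set_option synthInstance.maxSize 4096

/-!
# Finite groups with `C(t) ≅ Z₂ × S₄` and `C(S') = S`
-/

namespace Cfsg.Agent.Lib.S6Cent.Main

open Subgroup Cfsg.Agent.Lib.S6Cent.Basic Cfsg.Agent.Lib.S6Cent.Setup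
open Cfsg.Agent.Lib.S6Cent.Case2 Cfsg.Agent.Lib.S6Cent.Final

variable {G : Type*} [Group G] [Finite G]

lemma ttaX : tX * (tX * aX) = aX := by decide +kernel

lemma twist_inj : Function.Injective twist := fun a b h => by
  rw [← twist_twist a, ← twist_twist b, h]

lemma twist_eq (x : X) : twist (twist x) = x := twist_twist x

lemma finish {ι : X →* G} {P : Sylow 2 G} (hD : Data ι P)
    (hza : ∃ h : G, h * ι zX * h⁻¹ = ι aX) (hta : ∃ h : G, h * ι tX * h⁻¹ = ι (tX * aX)) :
    ¬ Group.IsSolvable G ∧ Nonempty (G ≃* Equiv.Perm (Fin 6)) := by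
  obtain ⟨H, hH⟩ := exists_H hD hza
  obtain ⟨hs, hc⟩ := simple_and_card hD hH hza
  refine ⟨not_solvable hD hH hs, ?_⟩
  rcases hc with h | h
  · exact (case168 hD hH hs h hta).elim
  · exact case360 hD hH hs h

lemma data_twist {ι : X →* G} {P : Sylow 2 G} (hD : Data ι P) : Data (ι.comp twist) P where
  inj := hD.inj.comp twist_inj
  mem := by
    intro g hg
    have h1 : (ι.comp twist) tX = ι tX := by
      show ι (twist tX) = _
      rw [twist_t]
    rw [h1] at hg
    obtain ⟨x, hx⟩ := hD.mem g hg
    refine ⟨twist x, ?_⟩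
    show g = ι (twist (twist x))
    rw [twist_eq, hx]
  memP := by
    intro g
    rw [hD.memP]
    constructor
    · rintro ⟨x, hx, rfl⟩
      refine ⟨twist x, (twist_T x).mpr hx, ?_⟩
      show ι x = ι (twist (twist x))
      rw [twist_eq]
    · rintro ⟨x, hx, rfl⟩
      exact ⟨twist x, (twist_T x).mpr hx, rfl⟩
  czz := by
    intro g hg
    have h1 : (ι.comp twist) zX = ι zX := by
      show ι (twist zX) = _
      rw [twist_z]
    rw [h1] at hg
    exact hD.czz g hg

theorem main (hev : Even (Nat.card G))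
    (t : G) (ht : orderOf t = 2) (T : Sylow 2 G) (htT : t ∈ (T : Subgroup G))
    (htc : ∀ s ∈ (T : Subgroup G), s * t = t * s)
    (e : ↥(Subgroup.centralizer ({t} : Set G)) ≃* (Multiplicative (ZMod 2) × Equiv.Perm (Fin 4)))
    (h2 : ∀ S : Sylow 2 G, Subgroup.centralizer ((⁅(S : Subgroup G), (S : Subgroup G)⁆ : Subgroup G) : Set G) = (S : Subgroup G)) :
    (Group.IsSolvable G → Subgroup.centralizer ({t} : Set G) = ⊤) ∧
      (¬ Group.IsSolvable G → Nonempty (G ≃* Equiv.Perm (Fin 6))) := by
  classical
  haveI : Fact (Nat.Prime 2) := ⟨Nat.prime_two⟩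
  have ht1 : t ≠ 1 := by
    rintro rfl
    simp at ht
  let ι : X →* G := (centralizer ({t} : Set G)).subtype.comp e.symm.toMonoidHom
  have hι : ∀ x, ι x = ((e.symm x : centralizer ({t} : Set G)) : G) := fun x => rfl
  have hinj : Function.Injective ι := by
    intro a b hab
    exact e.symm.injective (Subtype.ext hab)
  have hιe : ∀ c : centralizer ({t} : Set G), ι (e c) = c := by
    intro c
    rw [hι, MulEquiv.symm_apply_apply]
  -- `t` is `ι tX`
  let t' : centralizer ({t} : Set G) := ⟨t, mem_centralizer_singleton_iff.mpr rfl⟩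
  have hcen : ∀ y : X, e t' * y = y * e t' := by
    intro y
    obtain ⟨c, rfl⟩ := e.surjective y
    rw [← map_mul, ← map_mul]
    congr 1
    apply Subtype.ext
    exact (mem_centralizer_singleton_iff.mp c.2).symm
  have hιt : ι tX = t := by
    rcases center_X _ hcen with h | h
    · exfalso
      apply ht1
      have h1 : t' = 1 := by
        apply e.injective
        rw [h, map_one]
      exact congrArg Subtype.val h1
    · rw [← h, hιe]
  have hcardC : Nat.card (centralizer ({t} : Set G)) = 48 := by
    rw [← card_X]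
    exact Nat.card_congr e.toEquiv
  -- the Sylow subgroup
  have hT0card : Nat.card (TX.map ι) = 16 := by
    rw [Subgroup.card_map_of_injective hinj, card_TX]
  have hT0p : IsPGroup 2 (TX.map ι) := by
    apply IsPGroup.of_card (n := 4)
    rw [hT0card]; norm_num
  obtain ⟨S, hS⟩ := hT0p.exists_le_sylow
  have hTle : (T : Subgroup G) ≤ centralizer ({t} : Set G) := fun s hs =>
    mem_centralizer_singleton_iff.mpr (htc s hs)
  have hTcard : Nat.card (T : Subgroup G) ≤ 16 := by
    obtain ⟨k, hk⟩ := IsPGroup.iff_card.mp T.isPGroup'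
    have h1 := Subgroup.card_dvd_of_le hTle
    rw [hcardC, hk] at h1
    rw [hk]
    have hk4 : k ≤ 4 := by
      by_contra hlt
      push Not at hlt
      have h3 : (2 : ℕ) ^ 5 ∣ 2 ^ k := pow_dvd_pow 2 (by omega)
      have h4 : (2 : ℕ) ^ 5 ∣ 48 := dvd_trans h3 h1
      norm_num at h4
    calc 2 ^ k ≤ 2 ^ 4 := Nat.pow_le_pow_right (by norm_num) hk4
      _ = 16 := by norm_num
  have hScard : Nat.card (S : Subgroup G) = Nat.card (T : Subgroup G) := by
    rw [Sylow.card_eq_multiplicity, Sylow.card_eq_multiplicity]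
  have hSeq : TX.map ι = (S : Subgroup G) :=
    Subgroup.eq_of_le_of_card_ge hS (by rw [hT0card, hScard]; exact hTcard)
  have hmemS : ∀ g : G, g ∈ (S : Subgroup G) ↔ ∃ x, isT x ∧ g = ι x := by
    intro g
    rw [← hSeq]
    constructor
    · rintro ⟨x, hx, rfl⟩
      exact ⟨x, hx, rfl⟩
    · rintro ⟨x, hx, rfl⟩
      exact ⟨x, hx, rfl⟩
  have hD : Data ι S :=
    { inj := hinj
      mem := by
        intro g hg
        rw [hιt] at hg
        exact ⟨e ⟨g, mem_centralizer_singleton_iff.mpr hg⟩,
          (hιe ⟨g, mem_centralizer_singleton_iff.mpr hg⟩).symm⟩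
      memP := hmemS
      czz := by
        intro g hg
        rw [← h2 S, mem_centralizer_iff]
        have hle : ⁅(S : Subgroup G), (S : Subgroup G)⁆ ≤ centralizer ({g} : Set G) := by
          rw [Subgroup.commutator_le]
          intro a ha b hb
          obtain ⟨x, hx, rfl⟩ := (hmemS _).mp ha
          obtain ⟨y, hy, rfl⟩ := (hmemS _).mp hb
          rw [mem_centralizer_singleton_iff, commutatorElement_def, ← map_inv, ← map_inv, ← map_mul,
            ← map_mul, ← map_mul]
          rcases comm_T x y hx hy with h | h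
          · rw [h, map_one, mul_one, one_mul]
          · rw [h]
            exact hg.symm
        intro c hc
        exact mem_centralizer_singleton_iff.mp (hle hc) }
  by_cases hN : ∀ g : G, (∀ a ∈ EG ι, g * a * g⁻¹ ∈ EG ι) → g ∈ (S : Subgroup G)
  · have hc := case1 hD hN
    rw [hιt] at hc
    refine ⟨fun _ => hc, fun hns => (hns ?_).elim⟩
    haveI := Cfsg.Agent.Lib.CompLen.solvable_perm_fin4
    have hsurj : Function.Surjective ι := by
      intro g
      have hg : g ∈ centralizer ({t} : Set G) := by rw [hc]; exact mem_top g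
      exact ⟨e ⟨g, hg⟩, hιe _⟩
    exact Group.isSolvable_of_surjective (f := ι) hsurj
  · push Not at hN
    obtain ⟨g, hg1, hg2⟩ := hN
    have hfin : ¬ Group.IsSolvable G ∧ Nonempty (G ≃* Equiv.Perm (Fin 6)) := by
      rcases dichotomy hD hg1 hg2 with ⟨hza, hta⟩ | ⟨hza, hta⟩
      · exact finish hD hza hta
      · apply finish (data_twist hD)
        · show ∃ h : G, h * ι (twist zX) * h⁻¹ = ι (twist aX)
          rw [twist_z, twist_a]
          exact hza
        · show ∃ h : G, h * ι (twist tX) * h⁻¹ = ι (twist (tX * aX))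
          rw [twist_t, map_mul, twist_t, twist_a]
          rw [ttaX]
          exact hta
    exact ⟨fun hs => (hfin.1 hs).elim, fun _ => hfin.2⟩

end Cfsg.Agent.Lib.S6Cent.Main
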