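import Cfsg.Agent.Lib.S6Cent.Basic
import Cfsg.Agent.S0111
import Cfsg.Agent.S0215
import Cfsg.Agent.Lib.Invol8.Simple

set_option autoImplicit false
set_option linter.style.haveILetI false
set_option linter.unusedVariables false
set_option linter.unusedSectionVars false
set_option linter.unnecessarySeqFocus false

/-!
# Groups with `C(t) ≅ Z₂ × S₄` and `C(S') = S`: set-up and the easy fusion
-/

namespace Cfsg.Agent.Lib.S6Cent.Setup

open Subgroup Cfsg.Agent.Lib.S6Cent.Basic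

variable {G : Type*} [Group G] [Finite G]

/-- The data. -/
structure Data (ι : X →* G) (P : Sylow 2 G) : Prop where
  inj : Function.Injective ι
  mem : ∀ g : G, g * ι tX = ι tX * g → ∃ x, g = ι x
  memP : ∀ g : G, g ∈ (P : Subgroup G) ↔ ∃ x, isT x ∧ g = ι x
  czz : ∀ g : G, g * ι zX = ι zX * g → g ∈ (P : Subgroup G)

variable {ι : X →* G} {P : Sylow 2 G} (hD : Data ι P)

include hD

lemma comm_iff (x y : X) : ι x * ι y = ι y * ι x ↔ x * y = y * x := by
  constructor
  · intro h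
    apply hD.inj
    simpa using h
  · intro h
    rw [← map_mul, h, map_mul]

lemma t_comm (x : X) : ι x * ι tX = ι tX * ι x :=
  (comm_iff hD x tX).mpr (tX_central x)

lemma t_mul_t : ι tX * ι tX = 1 := by
  rw [← map_mul]
  have : tX * tX = 1 := by decide +kernel
  rw [this, map_one]

lemma t_ne_one : ι tX ≠ 1 := by
  intro h
  have : tX = 1 := hD.inj (by rw [h, map_one])
  exact absurd this (by decide +kernel)

lemma z_mul_z : ι zX * ι zX = 1 := by
  rw [← map_mul]
  have : zX * zX = 1 := by decide +kernel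
  rw [this, map_one]

lemma z_ne_one : ι zX ≠ 1 := by
  intro h
  have : zX = 1 := hD.inj (by rw [h, map_one])
  exact absurd this (by decide +kernel)

lemma iot_mem_P {x : X} (h : isT x) : ι x ∈ (P : Subgroup G) := (hD.memP _).mpr ⟨x, h, rfl⟩

lemma isT_of_mem {x : X} (h : ι x ∈ (P : Subgroup G)) : isT x := by
  obtain ⟨y, hy, hxy⟩ := (hD.memP _).mp h
  rwa [hD.inj hxy]

lemma eq_P : (P : Subgroup G) = TX.map ι := by
  ext g
  rw [hD.memP]
  constructor
  · rintro ⟨x, hx, rfl⟩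
    exact ⟨x, hx, rfl⟩
  · rintro ⟨x, hx, rfl⟩
    exact ⟨x, hx, rfl⟩

lemma card_P : Nat.card (P : Subgroup G) = 16 := by
  rw [eq_P hD, Subgroup.card_map_of_injective hD.inj, card_TX]

lemma centralizer_t : centralizer ({ι tX} : Set G) = ι.range := by
  ext g
  rw [mem_centralizer_singleton_iff]
  constructor
  · intro h
    obtain ⟨x, hx⟩ := hD.mem g h
    exact ⟨x, hx.symm⟩
  · rintro ⟨x, rfl⟩
    exact t_comm hD x

lemma card_Ct : Nat.card (centralizer ({ι tX} : Set G)) = 48 := by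
  rw [centralizer_t hD, ← card_X]
  exact Nat.card_congr (MonoidHom.ofInjective hD.inj).symm.toEquiv

lemma centralizer_z : centralizer ({ι zX} : Set G) = (P : Subgroup G) := by
  ext g
  rw [mem_centralizer_singleton_iff]
  constructor
  · exact hD.czz g
  · intro h
    obtain ⟨x, hx, rfl⟩ := (hD.memP _).mp h
    exact (comm_iff hD x zX).mpr (zX_central_T x hx)

lemma card_Cz : Nat.card (centralizer ({ι zX} : Set G)) = 16 := by
  rw [centralizer_z hD, card_P hD]

omit hD in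
lemma card_centralizer_conj (g x : G) :
    Nat.card (centralizer ({g * x * g⁻¹} : Set G)) = Nat.card (centralizer ({x} : Set G)) := by
  refine Nat.card_congr ⟨fun y => ⟨g⁻¹ * y.1 * g, ?_⟩, fun y => ⟨g * y.1 * g⁻¹, ?_⟩, ?_, ?_⟩
  · rw [mem_centralizer_singleton_iff]
    have := mem_centralizer_singleton_iff.mp y.2
    calc g⁻¹ * y.1 * g * x = g⁻¹ * (y.1 * (g * x * g⁻¹)) * g := by group
      _ = g⁻¹ * ((g * x * g⁻¹) * y.1) * g := by rw [this]
      _ = x * (g⁻¹ * y.1 * g) := by group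
  · rw [mem_centralizer_singleton_iff]
    have := mem_centralizer_singleton_iff.mp y.2
    calc g * y.1 * g⁻¹ * (g * x * g⁻¹) = g * (y.1 * x) * g⁻¹ := by group
      _ = g * (x * y.1) * g⁻¹ := by rw [this]
      _ = _ := by group
  · intro y
    apply Subtype.ext
    show g * (g⁻¹ * y.1 * g) * g⁻¹ = y.1
    group
  · intro y
    apply Subtype.ext
    show g⁻¹ * (g * y.1 * g⁻¹) * g = y.1
    group

/-- `t` and `z` are not conjugate. -/
lemma t_not_conj_z (g : G) : g * ι tX * g⁻¹ ≠ ι zX := by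
  intro h
  have h1 := card_centralizer_conj g (ι tX)
  rw [h, card_Cz hD, card_Ct hD] at h1
  omega

/-- Normalizers of `P` fix `z`. -/
lemma normalizer_fix_z {n : G} (hn : n ∈ normalizer ((P : Subgroup G) : Set G)) :
    n * ι zX * n⁻¹ = ι zX := by
  have hv : n * ι vX * n⁻¹ ∈ (P : Subgroup G) :=
    (mem_normalizer_iff.mp hn _).mp (iot_mem_P hD T_v)
  have ha : n * ι aX * n⁻¹ ∈ (P : Subgroup G) :=
    (mem_normalizer_iff.mp hn _).mp (iot_mem_P hD T_a)
  obtain ⟨v', hv', hv2⟩ := (hD.memP _).mp hv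
  obtain ⟨a', ha', ha2⟩ := (hD.memP _).mp ha
  have hc : n * ι zX * n⁻¹ = ι (v' * a' * v'⁻¹ * a'⁻¹) := by
    rw [← comm_va, map_mul, map_mul, map_mul, map_inv, map_inv, map_mul, map_mul, map_mul, map_inv,
      map_inv, ← hv2, ← ha2]
    group
  rcases comm_T v' a' hv' ha' with h | h
  · rw [h, map_one] at hc
    exact absurd (conj_eq_one_iff.mp hc) (z_ne_one hD)
  · rw [h] at hc
    exact hc

/-- Conjugate elements centralising `P` are equal. -/
lemma burnside {u : G} (hu : ∀ s ∈ (P : Subgroup G), s * u = u * s) (g : G)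
    (hg : ∀ s ∈ (P : Subgroup G), s * (g * u * g⁻¹) = (g * u * g⁻¹) * s) : g * u * g⁻¹ = u := by
  classical
  haveI : Fact (Nat.Prime 2) := ⟨Nat.prime_two⟩
  have h1 : u ∈ centralizer ((P : Subgroup G) : Set G) := by
    rw [mem_centralizer_iff]
    intro s hs
    exact (hu s hs)
  have h2 : g⁻¹⁻¹ * u * g⁻¹ ∈ centralizer ((P : Subgroup G) : Set G) := by
    rw [inv_inv, mem_centralizer_iff]
    intro s hs
    exact hg s hs
  obtain ⟨n, hn, hnn⟩ := Sylow.conj_eq_normalizer_conj_of_mem_centralizer P u g⁻¹ h1 h2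
  rw [inv_inv] at hnn
  rw [hnn]
  have hn' : n⁻¹ ∈ normalizer ((P : Subgroup G) : Set G) := inv_mem hn
  have hz := normalizer_fix_z hD hn'
  have hmem : n⁻¹ ∈ (P : Subgroup G) := by
    apply hD.czz
    calc n⁻¹ * ι zX = (n⁻¹ * ι zX * n⁻¹⁻¹) * n⁻¹ := by group
      _ = ι zX * n⁻¹ := by rw [hz]
  have := hu _ hmem
  calc n⁻¹ * u * n = (n⁻¹ * u) * n := rfl
    _ = (u * n⁻¹) * n := by rw [this]
    _ = u := by group

lemma burnside_X {x y : X} (hx : ∀ s : X, isT s → s * x = x * s) (hy : ∀ s : X, isT s → s * y = y * s)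
    (g : G) (h : g * ι x * g⁻¹ = ι y) : x = y := by
  have h1 : g * ι x * g⁻¹ = ι x := by
    apply burnside hD
    · intro s hs
      obtain ⟨s', hs', rfl⟩ := (hD.memP _).mp hs
      exact (comm_iff hD _ _).mpr (hx s' hs')
    · rw [h]
      intro s hs
      obtain ⟨s', hs', rfl⟩ := (hD.memP _).mp hs
      exact (comm_iff hD _ _).mpr (hy s' hs')
  rw [h1] at h
  exact hD.inj h

lemma t_not_conj_tz (g : G) : g * ι tX * g⁻¹ ≠ ι (tX * zX) := by
  intro h
  have := burnside_X hD (fun s _ => tX_central s) center_T_tz g h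
  exact absurd this (by decide +kernel)

lemma z_not_conj_tz (g : G) : g * ι zX * g⁻¹ ≠ ι (tX * zX) := by
  intro h
  have := burnside_X hD zX_central_T center_T_tz g h
  exact absurd this (by decide +kernel)

/-- Normal subgroups of odd order are trivial. -/
lemma eq_bot_of_odd (N : Subgroup G) [hN : N.Normal] (hodd : Odd (Nat.card N)) : N = ⊥ := by
  classical
  haveI : Fact (Nat.Prime 2) := ⟨Nat.prime_two⟩
  -- elements of `N` commuting with an involution of `T` vanish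
  have hfp : ∀ y : G, (∃ g : G, y = g * ι zX * g⁻¹) → ∀ x ∈ N, x * y = y * x → x = 1 := by
    rintro y ⟨g, rfl⟩ x hx hxy
    have hx' : g⁻¹ * x * g ∈ N := by
      have := hN.conj_mem x hx g⁻¹
      simpa using this
    have hc : (g⁻¹ * x * g) * ι zX = ι zX * (g⁻¹ * x * g) := by
      have : g⁻¹ * (x * (g * ι zX * g⁻¹)) * g = g⁻¹ * ((g * ι zX * g⁻¹) * x) * g := by rw [hxy]
      calc (g⁻¹ * x * g) * ι zX = g⁻¹ * (x * (g * ι zX * g⁻¹)) * g := by group
        _ = g⁻¹ * ((g * ι zX * g⁻¹) * x) * g := this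
        _ = _ := by group
    have hP2 := hD.czz _ hc
    -- an element of odd and 2-power order
    have h2 : IsPGroup 2 (P : Subgroup G) := P.isPGroup'
    obtain ⟨k, hk⟩ := IsPGroup.iff_orderOf.mp h2 ⟨_, hP2⟩
    have hord : orderOf (g⁻¹ * x * g) ∣ 2 ^ k := by
      rw [← hk]
      exact dvd_of_eq (Subgroup.orderOf_mk _ _).symm
    have hord2 : orderOf (g⁻¹ * x * g) ∣ Nat.card N := by
      have := orderOf_dvd_natCard (⟨_, hx'⟩ : N)
      rwa [Subgroup.orderOf_mk] at this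
    have hcop : Nat.Coprime (2 ^ k) (Nat.card N) := Nat.Coprime.pow_left k (Nat.coprime_two_left.mpr hodd)
    have h1 : orderOf (g⁻¹ * x * g) = 1 := Nat.eq_one_of_dvd_coprimes hcop hord hord2
    have h3 : g⁻¹ * x * g = 1 := orderOf_eq_one_iff.mp h1
    have h4 : x = g * (g⁻¹ * x * g) * g⁻¹ := by group
    rw [h4, h3]; group
  obtain ⟨y, hy⟩ := exists_conj_zv
  have hzz := z_mul_z hD
  have hinv : ∀ g : G, ∀ n ∈ N, (g * ι zX * g⁻¹) * n * (g * ι zX * g⁻¹)⁻¹ = n⁻¹ := by
    intro g n hn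
    refine Cfsg.Agent.Lib.Invol8.Simple.inverts_of_fpf N _ ?_ (hfp _ ⟨g, rfl⟩) hn
    calc g * ι zX * g⁻¹ * (g * ι zX * g⁻¹) = g * (ι zX * ι zX) * g⁻¹ := by group
      _ = 1 := by rw [hzz]; group
  rw [eq_bot_iff]
  intro n hn
  rw [mem_bot]
  obtain ⟨y₂, hy₂⟩ := exists_conj_zvz
  have h1 := hinv 1 n hn
  have hv : ι vX = ι y * ι zX * (ι y)⁻¹ := by rw [← hy, map_mul, map_mul, map_inv]
  have hvz : ι (vX * zX) = ι y₂ * ι zX * (ι y₂)⁻¹ := by rw [← hy₂, map_mul, map_mul, map_inv]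
  have h2 := hinv (ι y) (n⁻¹) (inv_mem hn)
  have h3 := hinv (ι y₂) n hn
  rw [← hv] at h2
  rw [← hvz, map_mul] at h3
  simp only [one_mul, inv_one, mul_one] at h1
  -- combine
  have h4 : (ι vX * ι zX) * n * (ι vX * ι zX)⁻¹ = n := by
    calc (ι vX * ι zX) * n * (ι vX * ι zX)⁻¹ = ι vX * (ι zX * n * (ι zX)⁻¹) * (ι vX)⁻¹ := by group
      _ = ι vX * n⁻¹ * (ι vX)⁻¹ := by rw [h1]
      _ = n⁻¹⁻¹ := h2
      _ = n := inv_inv n
  have h5 : n = n⁻¹ := h4.symm.trans h3
  have h6 : n * n = 1 := by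
    nth_rw 2 [h5]
    group
  have h7 : orderOf n ∣ 2 := orderOf_dvd_of_pow_eq_one (by rw [sq]; exact h6)
  have h8 : orderOf n ∣ Nat.card N := by
    have := orderOf_dvd_natCard (⟨n, hn⟩ : N)
    rwa [Subgroup.orderOf_mk] at this
  have hcop : Nat.Coprime 2 (Nat.card N) := Nat.coprime_two_left.mpr hodd
  have h9 : orderOf n = 1 := Nat.eq_one_of_dvd_coprimes hcop h7 h8
  exact orderOf_eq_one_iff.mp h9

/-- A `G`-central element is `1` or `t`. -/
lemma central_eq {w : G} (hw : ∀ g : G, g * w = w * g) : w = 1 ∨ w = ι tX := by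
  obtain ⟨x, rfl⟩ := hD.mem w (hw _).symm
  have : ∀ y : X, x * y = y * x := fun y => by
    have := hw (ι y)
    exact ((comm_iff hD x y).mp this.symm)
  rcases center_X x this with rfl | rfl
  · left; exact map_one ι
  · right; rfl

/-- The subgroup `E`. -/
def EG (ι : X →* G) : Subgroup G := EX.map ι

lemma mem_EG_iff {x : X} : ι x ∈ EG ι ↔ isE x := by
  constructor
  · rintro ⟨y, hy, hxy⟩
    have : y = x := hD.inj hxy
    rw [← this]; exact hy
  · intro h
    exact ⟨x, h, rfl⟩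

lemma card_EG : Nat.card (EG ι) = 8 := by
  rw [EG, Subgroup.card_map_of_injective hD.inj, card_EX]

/-- In Case 1 the elements outside `E₁` are not `2`-central. -/
lemma no_conj (hN : ∀ g : G, (∀ e ∈ EG ι, g * e * g⁻¹ ∈ EG ι) → g ∈ (P : Subgroup G))
    {u : G} (hEu : ∀ e ∈ EG ι, e * u = u * e) (hPu : ∀ g ∈ (P : Subgroup G), g * u = u * g → g ∈ EG ι)
    (hc : 16 ∣ Nat.card (centralizer ({u} : Set G))) : False := by
  classical
  haveI : Fact (Nat.Prime 2) := ⟨Nat.prime_two⟩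
  set C := centralizer ({u} : Set G) with hC
  have hle : EG ι ≤ C := fun e he => mem_centralizer_singleton_iff.mpr (hEu e he)
  let H : Subgroup C := (EG ι).subgroupOf C
  have hH : Nat.card H = 2 ^ 3 := by
    have : Nat.card H = Nat.card (EG ι) := Nat.card_congr (subgroupOfEquivOfLe hle).toEquiv
    rw [this, card_EG hD]
    norm_num
  have hmod := Sylow.card_normalizer_modEq_card hH
  have hnorm : normalizer (H : Set C) = H := by
    apply le_antisymm _ le_normalizer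
    intro c hc'
    have hcE : ∀ e ∈ EG ι, (c : G) * e * (c : G)⁻¹ ∈ EG ι := by
      intro e he
      have h1 := (mem_normalizer_iff.mp hc' ⟨e, hle he⟩).mp he
      exact h1
    have hcP := hN _ hcE
    have hcu : (c : G) * u = u * c := mem_centralizer_singleton_iff.mp c.2
    exact hPu _ hcP hcu
  rw [hnorm, hH] at hmod
  have h3 : (2 : ℕ) ^ 4 ∣ Nat.card C := by simpa using hc
  have := (Nat.modEq_zero_iff_dvd.mpr h3)
  have h4 : (2 : ℕ) ^ 3 ≡ 0 [MOD 2 ^ (3 + 1)] := hmod.trans this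
  exact absurd h4 (by decide)

/-- **Case 1.** -/
theorem case1 (hN : ∀ g : G, (∀ e ∈ EG ι, g * e * g⁻¹ ∈ EG ι) → g ∈ (P : Subgroup G)) :
    centralizer ({ι tX} : Set G) = ⊤ := by
  classical
  have htt := t_mul_t hD
  have ht1 := t_ne_one hD
  have hord : orderOf (ι tX) = 2 := orderOf_eq_prime (by rw [sq]; exact htt) ht1
  have hiso : ∀ g : G, g * ι tX * g⁻¹ ∈ (P : Subgroup G) → g * ι tX * g⁻¹ = ι tX := by
    intro g hg
    obtain ⟨x, hx, hgx⟩ := (hD.memP _).mp hg
    have hxx : x * x = 1 := by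
      apply hD.inj
      rw [map_mul, ← hgx, map_one]
      calc g * ι tX * g⁻¹ * (g * ι tX * g⁻¹) = g * (ι tX * ι tX) * g⁻¹ := by group
        _ = 1 := by rw [htt]; group
    have hx1 : x ≠ 1 := by
      rintro rfl
      rw [map_one] at hgx
      exact ht1 (conj_eq_one_iff.mp hgx)
    have hconjz : ∀ (y : X) (g : G), g * ι tX * g⁻¹ = ι (y * zX * y⁻¹) → False := by
      intro y g h
      apply t_not_conj_z hD ((ι y)⁻¹ * g)
      have : ι (y * zX * y⁻¹) = ι y * ι zX * (ι y)⁻¹ := by rw [map_mul, map_mul, map_inv]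
      rw [this] at h
      calc (ι y)⁻¹ * g * ι tX * ((ι y)⁻¹ * g)⁻¹ = (ι y)⁻¹ * (g * ι tX * g⁻¹) * ι y := by group
        _ = (ι y)⁻¹ * (ι y * ι zX * (ι y)⁻¹) * ι y := by rw [h]
        _ = _ := by group
    have hconjtz : ∀ (y : X) (g : G), g * ι tX * g⁻¹ = ι (tX * (y * zX * y⁻¹)) → False := by
      intro y g h
      apply t_not_conj_tz hD ((ι y)⁻¹ * g)
      have h0 := t_comm hD y
      have : ι (tX * (y * zX * y⁻¹)) = ι y * (ι tX * ι zX) * (ι y)⁻¹ := by
        rw [map_mul, map_mul, map_mul, map_inv]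
        calc ι tX * (ι y * ι zX * (ι y)⁻¹) = (ι tX * ι y) * ι zX * (ι y)⁻¹ := by group
          _ = (ι y * ι tX) * ι zX * (ι y)⁻¹ := by rw [h0]
          _ = _ := by group
      rw [this] at h
      rw [map_mul]
      calc (ι y)⁻¹ * g * ι tX * ((ι y)⁻¹ * g)⁻¹ = (ι y)⁻¹ * (g * ι tX * g⁻¹) * ι y := by group
        _ = (ι y)⁻¹ * (ι y * (ι tX * ι zX) * (ι y)⁻¹) * ι y := by rw [h]
        _ = _ := by group
    have hE : ∀ e ∈ EG ι, ∀ w : X, isE w → e * ι w = ι w * e := by
      rintro _ ⟨e, he, rfl⟩ w hw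
      apply (comm_iff hD _ _).mpr
      have : ∀ a b : X, isE a → isE b → a * b = b * a := by decide +kernel
      exact this e w he hw
    have hoff : ∀ w : X, isE w → (∀ s : X, isT s → s * w = w * s → isE s) →
        g * ι tX * g⁻¹ = ι w → False := by
      intro w hw hcen h
      apply no_conj hD hN (u := ι w)
      · intro e he
        exact hE e he w hw
      · intro s hs hsw
        obtain ⟨s', hs', rfl⟩ := (hD.memP _).mp hs
        exact ⟨s', hcen s' hs' ((comm_iff hD _ _).mp hsw), rfl⟩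
      · rw [← h, card_centralizer_conj, card_Ct hD]
        norm_num
    rcases invol_T x hx hxx hx1 with h | h | h | h | h | h | h | h | h | h | h
    · rw [hgx, h]
    · exfalso
      apply hconjz 1 g
      rw [hgx, h]
      simp
    · exfalso
      obtain ⟨y, hy⟩ := exists_conj_zv
      apply hconjz y g
      rw [hgx, h, hy]
    · exfalso
      obtain ⟨y, hy⟩ := exists_conj_zvz
      apply hconjz y g
      rw [hgx, h, hy]
    · exfalso
      apply hconjtz 1 g
      rw [hgx, h]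
      simp
    · exfalso
      obtain ⟨y, hy⟩ := exists_conj_zv
      apply hconjtz y g
      rw [hgx, h, hy]
    · exfalso
      obtain ⟨y, hy⟩ := exists_conj_zvz
      apply hconjtz y g
      rw [hgx, h, hy]
    · exact (hoff aX (by decide +kernel) (by decide +kernel) (by rw [hgx, h])).elim
    · exact (hoff (aX * zX) (by decide +kernel) (by decide +kernel) (by rw [hgx, h])).elim
    · exact (hoff (tX * aX) (by decide +kernel) (by decide +kernel) (by rw [hgx, h])).elim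
    · exact (hoff (tX * (aX * zX)) (by decide +kernel) (by decide +kernel) (by rw [hgx, h])).elim
  obtain ⟨N, hNn, hNo, hcomm⟩ := Cfsg.Agent.S0215.result P (ι tX) hord (iot_mem_P hD T_central_t) hiso
  haveI := hNn
  have hbot := eq_bot_of_odd hD N hNo
  rw [eq_top_iff]
  intro g _
  rw [mem_centralizer_singleton_iff]
  have h1 := hcomm g
  rw [hbot, mem_bot] at h1
  have h2 : ι tX * g * (ι tX)⁻¹ = g := mul_inv_eq_one.mp h1
  calc g * ι tX = (ι tX * g * (ι tX)⁻¹) * ι tX := by rw [h2]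
    _ = ι tX * g := by group

/-- **Case analysis.** -/
lemma dichotomy {g : G} (hgE : ∀ e ∈ EG ι, g * e * g⁻¹ ∈ EG ι) (hg : g ∉ (P : Subgroup G)) :
    ((∃ h : G, h * ι zX * h⁻¹ = ι aX) ∧ (∃ h : G, h * ι tX * h⁻¹ = ι (tX * aX))) ∨
      ((∃ h : G, h * ι zX * h⁻¹ = ι (tX * aX)) ∧ (∃ h : G, h * ι tX * h⁻¹ = ι aX)) := by
  have hzE : ι zX ∈ EG ι := (mem_EG_iff hD).mpr (by decide +kernel)
  have htE : ι tX ∈ EG ι := (mem_EG_iff hD).mpr (by decide +kernel)
  have haE : ι aX ∈ EG ι := (mem_EG_iff hD).mpr (by decide +kernel)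
  -- conjugation by `v`
  have hva : ι vX * ι aX * (ι vX)⁻¹ = ι (aX * zX) := by
    rw [← conj_a, map_mul, map_mul, map_inv]
  have hvta : ι vX * ι (tX * aX) * (ι vX)⁻¹ = ι (tX * (aX * zX)) := by
    have h0 := t_comm hD vX
    rw [map_mul, map_mul, ← hva]
    calc ι vX * (ι tX * ι aX) * (ι vX)⁻¹ = (ι vX * ι tX) * ι aX * (ι vX)⁻¹ := by group
      _ = (ι tX * ι vX) * ι aX * (ι vX)⁻¹ := by rw [h0]
      _ = _ := by group
  have hvaz : (ι vX)⁻¹ * ι (aX * zX) * (ι vX)⁻¹⁻¹ = ι aX := by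
    rw [← hva]; group
  have hvtaz : (ι vX)⁻¹ * ι (tX * (aX * zX)) * (ι vX)⁻¹⁻¹ = ι (tX * aX) := by
    rw [← hvta]; group
  -- the two images
  have key : ∀ {u : G} (hu : ∃ h : G, h * u * h⁻¹ = ι aX ∨ h * u * h⁻¹ = ι (tX * aX)), True :=
    fun _ => trivial
  have hz : (∃ h : G, h * ι zX * h⁻¹ = ι aX) ∨ (∃ h : G, h * ι zX * h⁻¹ = ι (tX * aX)) := by
    obtain ⟨x, hx, hgx⟩ := hgE _ hzE
    change ι x = _ at hgx
    have hgx' : g * ι zX * g⁻¹ = ι x := hgx.symm
    rcases E_list x hx with h | h | h | h | h | h | h | h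
    · rw [h, map_one] at hgx'
      exact absurd (conj_eq_one_iff.mp hgx') (z_ne_one hD)
    · exfalso
      apply hg
      apply hD.czz
      rw [h] at hgx'
      calc g * ι zX = (g * ι zX * g⁻¹) * g := by group
        _ = ι zX * g := by rw [hgx']
    · exfalso
      rw [h] at hgx'
      apply t_not_conj_z hD g⁻¹
      rw [← hgx']
      group
    · exfalso
      rw [h] at hgx'
      exact z_not_conj_tz hD g hgx'
    · left; exact ⟨g, by rw [hgx', h]⟩
    · left
      refine ⟨(ι vX)⁻¹ * g, ?_⟩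
      rw [← hvaz, ← h, ← hgx']
      group
    · right; exact ⟨g, by rw [hgx', h]⟩
    · right
      refine ⟨(ι vX)⁻¹ * g, ?_⟩
      rw [← hvtaz, ← h, ← hgx']
      group
  have ht : (∃ h : G, h * ι tX * h⁻¹ = ι aX) ∨ (∃ h : G, h * ι tX * h⁻¹ = ι (tX * aX)) := by
    obtain ⟨x, hx, hgx⟩ := hgE _ htE
    change ι x = _ at hgx
    have hgx' : g * ι tX * g⁻¹ = ι x := hgx.symm
    rcases E_list x hx with h | h | h | h | h | h | h | h
    · rw [h, map_one] at hgx'
      exact absurd (conj_eq_one_iff.mp hgx') (t_ne_one hD)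
    · exfalso
      rw [h] at hgx'
      exact t_not_conj_z hD g hgx'
    · -- `g` centralizes `t`
      exfalso
      rw [h] at hgx'
      have hc : g * ι tX = ι tX * g := by
        calc g * ι tX = (g * ι tX * g⁻¹) * g := by group
          _ = ι tX * g := by rw [hgx']
      obtain ⟨y, rfl⟩ := hD.mem g hc
      apply hg
      apply iot_mem_P hD
      apply norm_E
      · apply (mem_EG_iff hD).mp
        have := hgE _ hzE
        rwa [map_mul, map_mul, map_inv]
      · apply (mem_EG_iff hD).mp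
        have := hgE _ haE
        rwa [map_mul, map_mul, map_inv]
    · exfalso
      rw [h] at hgx'
      exact t_not_conj_tz hD g hgx'
    · left; exact ⟨g, by rw [hgx', h]⟩
    · left
      refine ⟨(ι vX)⁻¹ * g, ?_⟩
      rw [← hvaz, ← h, ← hgx']
      group
    · right; exact ⟨g, by rw [hgx', h]⟩
    · right
      refine ⟨(ι vX)⁻¹ * g, ?_⟩
      rw [← hvtaz, ← h, ← hgx']
      group
  -- combine, using that `t` and `z` are not conjugate
  have hmix : ∀ (w : G) (h₁ h₂ : G), h₁ * ι zX * h₁⁻¹ = w → h₂ * ι tX * h₂⁻¹ = w → False := by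
    intro w h₁ h₂ e1 e2
    apply t_not_conj_z hD (h₁⁻¹ * h₂)
    have : h₁⁻¹ * h₂ * ι tX * (h₁⁻¹ * h₂)⁻¹ = h₁⁻¹ * (h₂ * ι tX * h₂⁻¹) * h₁ := by group
    rw [this, e2, ← e1]
    group
  rcases hz with ⟨h₁, e1⟩ | ⟨h₁, e1⟩ <;> rcases ht with ⟨h₂, e2⟩ | ⟨h₂, e2⟩
  · exact (hmix _ h₁ h₂ e1 e2).elim
  · exact Or.inl ⟨⟨h₁, e1⟩, ⟨h₂, e2⟩⟩
  · exact Or.inr ⟨⟨h₁, e1⟩, ⟨h₂, e2⟩⟩
  · exact (hmix _ h₁ h₂ e1 e2).elim

end Cfsg.Agent.Lib.S6Cent.Setup
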